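import Cfsg.Agent.Lib.Spor.Fi24.NetL
import Cfsg.Agent.Lib.Spor.Fi24.NetK
import Cfsg.Agent.Lib.Spor.Fi24.NetA
import Cfsg.Agent.Lib.Spor.Fi24.NetB
import Cfsg.Agent.Lib.Spor.Fi24.NetC
import Cfsg.Agent.Lib.Spor.Fi24.NetD
import Cfsg.Agent.Lib.Spor.Fi24.NetE
import Cfsg.Agent.Lib.Spor.Fi24.NetF
import Cfsg.Agent.Lib.Spor.Fi24.NetG
import Cfsg.Agent.Lib.Spor.Fi24.NetJ
import Cfsg.Agent.Lib.Spor.Fi24.NetH
import Cfsg.Agent.Lib.Spor.Fi24.NetI

/-!
The networks of the twelve generators l, k, a, b, c, d, e, f, g, j, h, i on 306936 points.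
-/

namespace CfsgLib.Spor.Fi24

open CfsgLib.BitPerm

/-- the networks, numbered as l, k, a, b, c, d, e, f, g, j, h, i -/
noncomputable def sys : Sys where
  k := 19
  nets := [netL, netK, netA, netB, netC, netD, netE, netF, netG, netJ, netH, netI]
  inv := [0, 1, 2, 3, 4, 5, 6, 7, 8, 9, 10, 11]

end CfsgLib.Spor.Fi24
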