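import Cfsg.Agent.Lib.Spor.Fi24.Derived
import Cfsg.Agent.Lib.KnownB.Fi23Mult.Glue
import Cfsg.Agent.Lib.Spor.Fi23.Words

/-!
The spider relation inside the subgroup generated by the letters other than `k`: the spider element is a
power of `l`.

The group on the letters of Fi23 with the Coxeter relations, the relation of type `E₇` and a central
spider maps onto Fi23 with central kernel generated by the spider and is perfect, so that map is injective.
-/

set_option autoImplicit false
set_option maxRecDepth 100000

namespace CfsgLib.Spor.Fi24.Spider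

open CfsgLib.PresCert Cfsg.Spor

/-- the letters of Fi23 among those of Fi24 -/
def up : Fi23.Gen → Fi24.Gen
  | .a => .a | .b => .b | .c => .c | .d => .d | .e => .e | .f => .f | .g => .g | .j => .j | .h => .h | .i => .i

/-- the spider word of Fi23 -/
def spider23 : List Fi23.Gen := (List.replicate 10 [.d, .c, .b, .d, .e, .f, .d, .h, .i]).flatten

/-- the word of type `E₇` of Fi23 -/
def seven23 : List Fi23.Gen := (List.replicate 9 [.a, .b, .c, .d, .e, .f, .h]).flatten

theorem up_spider : spider23.map up = spiderWord := rfl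

theorem up_seven : seven23.map up = sevenNine := rfl

theorem extraW_eq : Fi23.extraW = [spider23, seven23] := rfl

/-- a word as an element of the free group -/
def fr (w : List Fi23.Gen) : FreeGroup Fi23.Gen := (w.map FreeGroup.of).prod

theorem lift_fr {Q : Type*} [Group Q] (f : Fi23.Gen → Q) (w : List Fi23.Gen) :
    FreeGroup.lift f (fr w) = (w.map f).prod := by
  rw [fr, map_list_prod, List.map_map]
  refine congrArg List.prod (List.map_congr_left fun x _ => ?_)
  simp

/-- relators: Coxeter, the relation of type `E₇`, centrality of the spider -/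
def rels : Set (FreeGroup Fi23.Gen) :=
  coxRelators Fi23.edges ∪ ({fr seven23} ∪
    Set.range fun x => fr spider23 * FreeGroup.of x * (fr spider23)⁻¹ * (FreeGroup.of x)⁻¹)

/-- the group with these relators -/
abbrev Gam : Type := PresentedGroup rels

/-- a generator -/
def gg (x : Fi23.Gen) : Gam := PresentedGroup.of x

theorem gg_cox (x y : Fi23.Gen) : (gg x * gg y) ^ coxLabel Fi23.edges x y = 1 := by
  have h := PresentedGroup.one_of_mem (rels := rels) (Or.inl ⟨x, Fi23.mem_nodes x, y, Fi23.mem_nodes y, rfl⟩ :
    (FreeGroup.of x * FreeGroup.of y) ^ coxLabel Fi23.edges x y ∈ rels)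
  rw [map_pow, map_mul] at h
  exact h

theorem gg_sq (x : Fi23.Gen) : gg x * gg x = 1 := by
  have h := gg_cox x x
  rw [show coxLabel Fi23.edges x x = 1 by rw [coxLabel, if_pos rfl], pow_one] at h
  exact h

theorem mk_fr (w : List Fi23.Gen) : PresentedGroup.mk rels (fr w) = (w.map gg).prod := by
  rw [fr, map_list_prod, List.map_map]
  rfl

theorem gg_seven : (seven23.map gg).prod = 1 := by
  rw [← mk_fr]
  exact PresentedGroup.one_of_mem (Or.inr (Or.inl rfl))

/-- the spider -/
def sp : Gam := (spider23.map gg).prod

theorem sp_comm (x : Fi23.Gen) : sp * gg x = gg x * sp := by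
  have h := PresentedGroup.one_of_mem (rels := rels) (Or.inr (Or.inr ⟨x, rfl⟩) :
    fr spider23 * FreeGroup.of x * (fr spider23)⁻¹ * (FreeGroup.of x)⁻¹ ∈ rels)
  rw [map_mul, map_mul, map_mul, map_inv, map_inv, mk_fr] at h
  exact mul_inv_eq_iff_eq_mul.1 (mul_inv_eq_one.1 h)

theorem closure_gg : Subgroup.closure (Set.range gg) = ⊤ := PresentedGroup.closure_range_of rels

theorem sp_central : sp ∈ Subgroup.center Gam := by
  rw [Subgroup.mem_center_iff]
  intro g
  have hle : Subgroup.closure (Set.range gg) ≤ Subgroup.centralizer {sp} := by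
    rw [Subgroup.closure_le]
    rintro _ ⟨x, rfl⟩
    exact Subgroup.mem_centralizer_singleton_iff.2 (sp_comm x).symm
  exact Subgroup.mem_centralizer_singleton_iff.1 (hle (closure_gg ▸ Subgroup.mem_top g))

theorem perfect : commutator Gam = ⊤ := by
  rw [← Abelianization.ker_of, eq_top_iff, ← closure_gg, Subgroup.closure_le]
  let A : Fi23.Gen → Abelianization Gam := fun x => Abelianization.of (gg x)
  have hsq : ∀ x, A x * A x = 1 := fun x => by simp only [A, ← map_mul, gg_sq, map_one]
  have hedge : ∀ x y, coxLabel Fi23.edges x y = 3 → A x = A y := by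
    intro x y h
    have e := gg_cox x y
    rw [h] at e
    have e' : A x * A y = 1 := by
      have h3 : (A x * A y) ^ 3 = 1 := by simp only [A, ← map_mul, ← map_pow, e, map_one]
      rwa [pow_succ, show (A x * A y) ^ 2 = 1 by
        rw [mul_pow, pow_two, pow_two, hsq, hsq, one_mul], one_mul] at h3
    calc A x = A x * (A y * A y) := by rw [hsq, mul_one]
      _ = A y := by rw [← mul_assoc, e', one_mul]
  have hb := hedge .a .b (by decide)
  have hc := hb.trans (hedge .b .c (by decide))
  have hd := hc.trans (hedge .c .d (by decide))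
  have he := hd.trans (hedge .d .e (by decide))
  have hh := hd.trans (hedge .d .h (by decide))
  have hf := he.trans (hedge .e .f (by decide))
  have hg := hf.trans (hedge .f .g (by decide))
  have hj := hg.trans (hedge .g .j (by decide))
  have hi := hh.trans (hedge .h .i (by decide))
  have hall : ∀ x, A x = A .a := by
    intro x
    cases x
    exacts [rfl, hb.symm, hc.symm, hd.symm, he.symm, hf.symm, hg.symm, hj.symm, hh.symm, hi.symm]
  have ha : A .a = 1 := by
    have e := congrArg Abelianization.of gg_seven
    rw [map_list_prod, List.map_map, map_one, show seven23.map (Abelianization.of ∘ gg) =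
      List.replicate seven23.length (A .a) from List.eq_replicate_iff.2 ⟨by simp, fun q hq => by
        obtain ⟨x, -, rfl⟩ := List.mem_map.1 hq
        exact hall x⟩, List.prod_replicate, show seven23.length = 2 * 31 + 1 from rfl,
      pow_succ, pow_mul, pow_two, hsq, one_pow, one_mul] at e
    exact e
  rintro _ ⟨x, rfl⟩
  exact MonoidHom.mem_ker.2 ((hall x).trans ha)

/-- the map onto Fi23 -/
def σ : Gam →* Cfsg.Spor.Fi23 := PresentedGroup.toGroup (f := fun x => Fi23.gen x) (by
  rintro r (⟨x, hx, y, hy, rfl⟩ | rfl | ⟨x, rfl⟩)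
  · simp only [map_pow, map_mul, FreeGroup.lift_apply_of]
    exact pgen_cox hx hy
  · rw [lift_fr]
    exact Fi23.gen_known _ (List.mem_append_right _ (by rw [extraW_eq]; simp))
  · have h : (spider23.map fun x => Fi23.gen x).prod = 1 :=
      Fi23.gen_known _ (List.mem_append_right _ (by rw [extraW_eq]; simp))
    simp only [map_mul, map_inv, lift_fr, FreeGroup.lift_apply_of, h]
    group)

theorem σ_gg (x : Fi23.Gen) : σ (gg x) = Fi23.gen x := PresentedGroup.toGroup.of _

theorem σ_stem : Cfsg.IsStemExtension σ := by
  have hsur : Function.Surjective σ := by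
    rw [← MonoidHom.range_eq_top, eq_top_iff, ← PresentedGroup.closure_range_of, Subgroup.closure_le]
    rintro _ ⟨x, rfl⟩
    exact ⟨gg x, σ_gg x⟩
  have hker : σ.ker ≤ Subgroup.zpowers sp := by
    haveI : (Subgroup.zpowers sp).Normal := ⟨fun u hu g => by
      rwa [Subgroup.mem_center_iff.1 ((Subgroup.zpowers_le.2 sp_central) hu) g, mul_inv_cancel_right]⟩
    let q := QuotientGroup.mk' (Subgroup.zpowers sp)
    let f : Fi23.Gen → Gam ⧸ Subgroup.zpowers sp := fun x => q (gg x)
    have hw : ∀ w : List Fi23.Gen, (w.map f).prod = q (w.map gg).prod := fun w => by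
      rw [map_list_prod, List.map_map]; rfl
    have hrel : ∀ r ∈ coxRelators Fi23.edges ∪ {r | r ∈ Fi23.extra}, FreeGroup.lift f r = 1 := by
      rintro r (⟨x, hx, y, hy, rfl⟩ | hr)
      · simp only [map_pow, map_mul, FreeGroup.lift_apply_of]
        rw [← map_mul, ← map_pow, gg_cox, map_one]
      · have e := Fi23.wordsFor f fun x => by rw [← map_mul, gg_sq, map_one]
        have hmem : FreeGroup.lift f r ∈ Fi23.extraW.map fun w => (w.map f).prod :=
          e ▸ List.mem_map.2 ⟨r, hr, rfl⟩
        obtain ⟨w, hw', e'⟩ := List.mem_map.1 hmem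
        rw [← e', hw]
        rw [extraW_eq] at hw'
        simp only [List.mem_cons, List.not_mem_nil, or_false] at hw'
        rcases hw' with rfl | rfl
        · exact (QuotientGroup.eq_one_iff _).2 (Subgroup.mem_zpowers _)
        · rw [gg_seven, map_one]
    let τ : Cfsg.Spor.Fi23 →* Gam ⧸ Subgroup.zpowers sp := PresentedGroup.toGroup hrel
    have hτ : τ.comp σ = q := PresentedGroup.ext fun x => by
      show τ (σ (gg x)) = q (gg x)
      rw [σ_gg]
      exact PresentedGroup.toGroup.of hrel
    intro u hu
    have := DFunLike.congr_fun hτ u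
    rw [MonoidHom.comp_apply, MonoidHom.mem_ker.1 hu, map_one] at this
    exact (QuotientGroup.eq_one_iff u).1 this.symm
  exact ⟨hsur, hker.trans (Subgroup.zpowers_le.2 sp_central), perfect ▸ le_top⟩

theorem sp_eq_one : sp = 1 := by
  have h : sp ∈ σ.ker := by
    rw [MonoidHom.mem_ker, sp, map_list_prod, List.map_map,
      show spider23.map (σ ∘ gg) = spider23.map (fun x => Fi23.gen x) from
        List.map_congr_left fun x _ => σ_gg x]
    exact Fi23.gen_known _ (List.mem_append_right _ (by rw [extraW_eq]; simp))
  rwa [KnownB.Fi23Mult.ker_eq_bot_of_good KnownB.Fi23Mult.val_good σ σ_stem, Subgroup.mem_bot] at h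

theorem seven_eq_l : ev sevenNine = gen (.l : Fi24.Gen) := by
  have h := gen_known (.l :: sevenNine.reverse) (List.mem_append_right _ (List.mem_cons_self ..))
  rw [List.map_cons, List.prod_cons, prod_reverse_of_invol gen gen_sq, mul_inv_eq_one] at h
  exact h.symm

theorem gen_comm_l {x : Fi24.Gen} (hx : x ∈ hGens) : gen x * gen .l = gen .l * gen x := by
  revert hx
  cases x <;> intro hx
  all_goals first
    | rfl
    | exact (comm_of_label (by decide)).eq
    | exact absurd hx (by decide)

/-- The spider element is a power of `l`. -/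
theorem spider_mem : ev spiderWord ∈ Subgroup.zpowers (gen (.l : Fi24.Gen)) := by
  let lH : H := ⟨gen .l, Subgroup.subset_closure ⟨.l, by decide, rfl⟩⟩
  have hc : lH ∈ Subgroup.center H := by
    rw [Subgroup.mem_center_iff]
    intro h
    have hle : H ≤ Subgroup.centralizer ({gen .l} : Set Cfsg.Spor.Fi24) := by
      rw [H, lettersGroup, Subgroup.closure_le]
      rintro _ ⟨x, hx, rfl⟩
      exact Subgroup.mem_centralizer_singleton_iff.2 (gen_comm_l hx)
    exact Subtype.ext (Subgroup.mem_centralizer_singleton_iff.1 (hle h.2))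
  haveI : (Subgroup.zpowers lH).Normal := ⟨fun u hu g => by
    rwa [Subgroup.mem_center_iff.1 ((Subgroup.zpowers_le.2 hc) hu) g, mul_inv_cancel_right]⟩
  let uH : Fi23.Gen → H := fun x => ⟨gen (up x), Subgroup.subset_closure ⟨_, by cases x <;> decide, rfl⟩⟩
  let q := QuotientGroup.mk' (Subgroup.zpowers lH)
  have hval : ∀ w : List Fi23.Gen, (((w.map uH).prod : H) : Cfsg.Spor.Fi24) = ev (w.map up) := by
    intro w
    induction w with
    | nil => rfl
    | cons x w ih => rw [List.map_cons, List.prod_cons, Subgroup.coe_mul, ih, List.map_cons, ev_cons]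
  have hq : ∀ w : List Fi23.Gen, (w.map fun x => q (uH x)).prod = q (w.map uH).prod := fun w => by
    rw [map_list_prod, List.map_map]; rfl
  let ρ : Gam →* H ⧸ Subgroup.zpowers lH := PresentedGroup.toGroup (f := fun x => q (uH x)) (by
    rintro r (⟨x, hx, y, hy, rfl⟩ | rfl | ⟨x, rfl⟩)
    · simp only [map_pow, map_mul, FreeGroup.lift_apply_of]
      rw [← map_mul, ← map_pow]
      refine (congrArg q (Subtype.ext ?_)).trans (map_one q)
      rw [SubgroupClass.coe_pow]
      show (gen (up x) * gen (up y)) ^ _ = 1
      rw [show coxLabel Fi23.edges x y = coxLabel Fi24.edges (up x) (up y) by cases x <;> cases y <;> decide]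
      exact pgen_cox (mem_nodes _) (mem_nodes _)
    · rw [lift_fr, hq]
      refine (QuotientGroup.eq_one_iff _).2 ?_
      rw [show (seven23.map uH).prod = lH from Subtype.ext (by rw [hval, up_seven]; exact seven_eq_l)]
      exact Subgroup.mem_zpowers _
    · simp only [map_mul, map_inv, lift_fr, FreeGroup.lift_apply_of, hq]
      rw [← map_inv, ← map_inv, ← map_mul, ← map_mul, ← map_mul]
      refine (congrArg q (Subtype.ext ?_)).trans (map_one q)
      have h := (spider_comm (x := up x) (by cases x <;> decide)).eq
      simp only [Subgroup.coe_mul, InvMemClass.coe_inv, hval, up_spider, OneMemClass.coe_one]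
      show ev spiderWord * gen (up x) * (ev spiderWord)⁻¹ * (gen (up x))⁻¹ = 1
      rw [h]
      group)
  have e : q (spider23.map uH).prod = 1 := by
    rw [← hq, ← map_one ρ, ← sp_eq_one, sp, map_list_prod, List.map_map]
    exact congrArg List.prod (List.map_congr_left fun x _ =>
      (show ρ (gg x) = q (uH x) from PresentedGroup.toGroup.of _).symm)
  obtain ⟨k, hk⟩ := Subgroup.mem_zpowers_iff.1 ((QuotientGroup.eq_one_iff _).1 e)
  refine Subgroup.mem_zpowers_iff.2 ⟨k, ?_⟩
  have := congrArg Subtype.val hk
  rw [SubgroupClass.coe_zpow, hval, up_spider] at this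
  exact this

end CfsgLib.Spor.Fi24.Spider
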