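import Cfsg.Agent.Lib.Spor.Fi24.Index
import Cfsg.Agent.Lib.Spor.Fi24.Spider
import Cfsg.Agent.Lib.Spor.FischerTypes.M24
import Cfsg.Agent.Lib.ThreeTransp.FischerPrim

/-!
The order of the presented group Fi24 and the simplicity of its commutator subgroup.
-/

namespace CfsgLib.Spor.Fi24

open CfsgLib.PresCert Cfsg.Spor CfsgLib.ThreeTransp

/-- the facts from the enumeration of the cosets -/
theorem cosetFacts : FischerTypes.CosetFacts := ⟨index_H, Spider.spider_mem⟩

/-- The presented group Fi24 has order twice that of the simple Fischer group. -/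
theorem natCard : Nat.card Cfsg.Spor.Fi24 = 2 * 1255205709190661721292800 := by
  obtain ⟨-, -, hH, -⟩ := FischerTypes.exists_quot24 cosetFacts
  rw [← H.card_mul_index, hH, index_H]

theorem finite_Fi24 : Finite Cfsg.Spor.Fi24 := Nat.finite_of_card_ne_zero (by rw [natCard]; norm_num)

/-- the sign of an element: every generator is odd -/
noncomputable def parity : Cfsg.Spor.Fi24 →* ℤˣ :=
  PresentedGroup.toGroup (f := fun _ => (-1 : ℤˣ)) (by
    rintro r (⟨x, hx, y, hy, rfl⟩ | hr)
    · simp
    · have e := wordsFor (fun _ => (-1 : ℤˣ)) (fun _ => Int.units_mul_self _)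
      have : FreeGroup.lift (fun _ => (-1 : ℤˣ)) r ∈
          extraW.map fun w => (w.map fun _ => (-1 : ℤˣ)).prod :=
        e ▸ List.mem_map.2 ⟨r, hr, rfl⟩
      obtain ⟨w, hwm, e'⟩ := List.mem_map.1 this
      rw [← e']
      have hlen : ∀ w ∈ extraW, Even w.length := by decide +kernel
      rw [List.map_const', List.prod_replicate, (hlen w hwm).neg_one_pow])

theorem parity_gen (x : Fi24.Gen) : parity (gen x) = -1 := PresentedGroup.toGroup.of _

theorem gen_mem_sup (x : Fi24.Gen) :
    gen x ∈ commutator Cfsg.Spor.Fi24 ⊔ Subgroup.zpowers (gen .l) := by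
  obtain ⟨w, hw⟩ := isConj_iff.1 (FischerTypes.gen_mem cosetFacts x)
  have h1 : w * gen .l * w⁻¹ * (gen .l)⁻¹ ∈ commutator Cfsg.Spor.Fi24 := by
    rw [← commutatorElement_def, commutator_def]
    exact Subgroup.commutator_mem_commutator (Subgroup.mem_top _) (Subgroup.mem_top _)
  have h2 := mul_mem (Subgroup.mem_sup_left (T := Subgroup.zpowers (gen .l)) h1)
    (Subgroup.mem_sup_right (Subgroup.mem_zpowers (gen .l)))
  rwa [inv_mul_cancel_right, hw] at h2

theorem index_commutator : (commutator Cfsg.Spor.Fi24).index = 2 := by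
  have htop : commutator Cfsg.Spor.Fi24 ⊔ Subgroup.zpowers (gen .l) = ⊤ := by
    rw [eq_top_iff, ← top_eq_lettersGroup (edges := Fi24.edges) (extra := Fi24.extra) allGens mem_allGens,
      lettersGroup, Subgroup.closure_le]
    rintro _ ⟨x, -, rfl⟩
    exact gen_mem_sup x
  rw [Subgroup.index_eq_two_iff]
  refine ⟨gen .l, fun q => ?_⟩
  obtain ⟨u, hu, v, hv, rfl⟩ := Subgroup.mem_sup_of_normal_left.1 (htop ▸ Subgroup.mem_top q)
  obtain ⟨k, rfl⟩ := Subgroup.mem_zpowers_iff.1 hv
  have hpar : ∀ n ∈ commutator Cfsg.Spor.Fi24, parity n = 1 := fun n hn =>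
    MonoidHom.mem_ker.1 (Abelianization.commutator_subset_ker parity hn)
  have hne : gen .l ∉ commutator Cfsg.Spor.Fi24 := fun h => by
    have := hpar _ h
    rw [parity_gen] at this
    exact absurd this (by decide)
  rcases Int.even_or_odd k with ⟨j, rfl⟩ | ⟨j, rfl⟩
  · have e : (gen .l : Cfsg.Spor.Fi24) ^ (j + j) = 1 := by
      rw [zpow_add, ← (Commute.refl (gen (.l : Fi24.Gen))).mul_zpow, gen_sq, one_zpow]
    rw [e, mul_one]
    exact Or.inr ⟨hu, fun h => hne (by simpa using mul_mem (inv_mem hu) h)⟩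
  · have e : (gen .l : Cfsg.Spor.Fi24) ^ (2 * j + 1) = gen .l := by
      rw [zpow_add, zpow_one, zpow_mul, zpow_two, gen_sq, one_zpow, one_mul]
    rw [e, mul_assoc, gen_sq, mul_one]
    exact Or.inl ⟨hu, fun h => hne (by simpa using mul_mem (inv_mem hu) h)⟩

/-- The commutator subgroup of the presented group Fi24 is the simple Fischer group. -/
theorem isFi24' : Cfsg.IsFi24' Cfsg.Spor.Fi24' := by
  haveI := finite_Fi24
  refine ⟨?_, ?_⟩
  · have hD := FischerTypes.three_transposition24 cosetFacts
    have hl : gen .l ∈ conjugatesOf (gen (.l : Fi24.Gen)) := mem_conjugatesOf_self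
    have ha := FischerTypes.gen_mem cosetFacts .a
    have hne : gen (.l : Fi24.Gen) ≠ gen .a := fun h => FischerTypes.moves_a (congrArg π h).symm
    exact ((tclass_of_class hD ⟨_, hl, _, ha, hne⟩).simple_iff_primitive
      (FischerTypes.center24 cosetFacts)
      ⟨_, hl, _, ha, hne, comm_of_label (by decide)⟩).1.2 (FischerTypes.primitive24 cosetFacts)
  · have h := (commutator Cfsg.Spor.Fi24).card_mul_index
    rw [index_commutator, natCard, mul_comm] at h
    exact Nat.eq_of_mul_eq_mul_left (by norm_num) h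

end CfsgLib.Spor.Fi24
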