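import Cfsg.Agent.Lib.Spor.Fi24.Sys
import Cfsg.Agent.Lib.BitPerm.Outside

/-!
The letters move no point from 306936 on.
-/

set_option Elab.async false

namespace CfsgLib.Spor.Fi24

open CfsgLib.BitPerm

theorem outside0_ok : sys.okOutside 306936 0 = true := by decide +kernel

theorem outside1_ok : sys.okOutside 306936 1 = true := by decide +kernel

theorem outside2_ok : sys.okOutside 306936 2 = true := by decide +kernel

theorem outside3_ok : sys.okOutside 306936 3 = true := by decide +kernel

theorem outside4_ok : sys.okOutside 306936 4 = true := by decide +kernel

theorem outside5_ok : sys.okOutside 306936 5 = true := by decide +kernel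

theorem outside6_ok : sys.okOutside 306936 6 = true := by decide +kernel

theorem outside7_ok : sys.okOutside 306936 7 = true := by decide +kernel

theorem outside8_ok : sys.okOutside 306936 8 = true := by decide +kernel

theorem outside9_ok : sys.okOutside 306936 9 = true := by decide +kernel

theorem outside10_ok : sys.okOutside 306936 10 = true := by decide +kernel

theorem outside11_ok : sys.okOutside 306936 11 = true := by decide +kernel

end CfsgLib.Spor.Fi24
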