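import Cfsg.Agent.Lib.Spor.Fi24.CloCert
import Cfsg.Agent.Lib.Spor.Fi24.CloState0

/-!
Steps of the closure.
-/

set_option Elab.async false

namespace CfsgLib.Spor.Fi24.Clo

open CfsgLib.BitPerm

/-- steps -/
def ops0 : List Op :=
  [.define 1, .define 0, .define 2, .define 3, .define 4, .define 5, .define 6, .define 7, .define 8, .define 9,
   .define 10, .define 11, .define 1, .define 2, .define 3, .define 4, .define 5, .define 6, .define 7, .define 8,
   .define 10, .define 4, .define 5, .define 6, .define 7, .define 8, .define 9, .define 10, .define 11, .define 3,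
   .define 4, .define 5, .define 6, .define 7, .define 8, .define 9, .define 10, .define 11, .define 3, .define 4,
   .define 5, .define 6, .define 7, .define 8, .define 9, .define 10, .define 11, .define 2, .define 3, .define 4,
   .define 5, .define 6, .define 7, .define 8, .define 9, .define 10, .define 11, .define 1, .define 0, .define 2,
   .define 3, .define 4, .define 5, .define 6, .define 7, .define 8, .define 9, .define 10, .define 11, .define 2,
   .define 3, .define 4, .define 2, .define 3, .rot 54 0, .rot 58 0, .rot 19 1, .rot 43 1, .rot 28 1, .rot 36 1,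
   .rot 43 1, .rot 31 0, .rot 61 0, .rot 39 1, .rot 32 1, .rot 55 0, .rot 15 1, .rot 24 1, .rot 39 1, .rot 32 1,
   .rot 29 1, .rot 37 1, .rot 44 1, .rot 50 1, .rot 55 1, .rot 20 1, .rot 59 1, .rot 44 1, .rot 37 1, .rot 29 1,
   .rot 65 0, .rot 62 1, .rot 13 0, .rot 63 0, .rot 9 1, .rot 22 0, .rot 23 0, .rot 10 1, .rot 39 1, .rot 44 1,
   .rot 37 1, .rot 16 1, .rot 40 1, .rot 59 0, .rot 33 1, .rot 25 1, .rot 46 1, .rot 33 1, .rot 40 1, .rot 46 1,
   .rot 58 0, .rot 64 1, .rot 32 0, .rot 12 0, .rot 20 1, .rot 65 0, .rot 28 1, .rot 49 0, .rot 29 1, .rot 44 1,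
   .rot 50 1, .rot 37 1, .rot 17 1, .rot 26 1, .rot 34 1, .rot 41 1, .rot 62 0, .rot 47 1, .rot 52 1, .rot 61 0,
   .rot 41 1, .rot 34 1, .rot 17 1, .rot 62 0, .rot 26 1, .rot 56 0, .rot 7 1, .rot 5 1, .rot 23 1, .rot 31 1,
   .rot 50 0, .rot 14 1, .rot 27 1, .rot 35 1, .rot 42 1, .rot 64 0, .rot 48 1, .rot 53 1, .rot 18 1, .rot 63 0,
   .rot 57 1, .rot 42 1, .rot 35 1, .rot 64 0, .rot 27 1, .rot 57 0, .rot 8 1, .rot 48 1, .rot 60 0, .rot 42 1,
   .rot 35 1, .rot 34 1, .rot 41 1, .rot 47 1, .rot 52 1, .rot 61 0, .rot 56 0, .rot 57 0, .rot 51 0, .rot 52 0,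
   .rot 16 1, .rot 6 1, .rot 25 1, .rot 59 0, .rot 33 1, .rot 40 1, .rot 51 0, .rot 52 0, .rot 53 0, .rot 56 1]

theorem run0_ok : Cert.isSt (cert.run ops0 cert.init) ckB0 ckK0 = true := by decide +kernel

end CfsgLib.Spor.Fi24.Clo
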