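import Cfsg.Agent.Lib.Spor.Fi24.CloCert
import Cfsg.Agent.Lib.Spor.Fi24.CloState0
import Cfsg.Agent.Lib.Spor.Fi24.CloState1

/-!
Steps of the closure.
-/

set_option Elab.async false

namespace CfsgLib.Spor.Fi24.Clo

open CfsgLib.BitPerm

/-- steps -/
def ops1 : List Op :=
  [.rot 45 0, .rot 46 0, .rot 47 0, .rot 46 1, .rot 52 1, .rot 60 1, .rot 57 1, .rot 48 0, .rot 47 1, .rot 48 1,
   .rot 23 1, .rot 45 1, .rot 31 1, .rot 49 1, .rot 14 1, .rot 4 1, .rot 53 1, .rot 63 0, .rot 27 1, .rot 38 0,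
   .rot 22 1, .rot 39 0, .rot 43 0, .rot 42 1, .rot 40 0, .rot 64 0, .rot 57 1, .rot 60 0, .rot 48 1, .rot 35 1,
   .rot 18 1, .rot 1 0, .rot 54 1, .rot 43 1, .rot 38 1, .rot 45 1, .rot 54 0, .rot 51 1, .rot 60 0, .rot 42 1,
   .rot 44 0, .rot 2 0, .rot 3 0, .rot 5 1, .rot 8 1, .rot 10 1, .rot 13 0, .rot 14 0, .rot 24 0, .rot 36 0,
   .rot 9 1, .rot 56 0, .rot 51 0, .rot 41 0, .rot 44 1, .rot 7 1, .rot 33 0, .rot 19 1, .rot 65 1, .rot 50 1,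
   .rot 55 1, .rot 65 0, .rot 58 1, .rot 59 1, .rot 49 0, .rot 63 0, .rot 48 1, .rot 53 1, .rot 60 0, .rot 32 1,
   .rot 39 1, .rot 22 0, .rot 25 0, .rot 28 0, .rot 56 1, .rot 30 0, .rot 31 0, .rot 12 1, .rot 15 1, .rot 51 1,
   .rot 24 1, .rot 4 0, .rot 52 0, .rot 9 1, .rot 57 1, .rot 26 0, .rot 63 0, .rot 64 0, .rot 60 0, .rot 56 0,
   .rot 25 1, .rot 26 1, .rot 34 1, .rot 60 1, .rot 53 0, .rot 5 1, .rot 41 1, .rot 42 0, .rot 31 1, .rot 46 1,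
   .rot 58 0, .rot 59 0, .rot 56 1, .rot 52 1, .rot 33 1, .rot 51 0, .rot 45 0, .rot 60 1, .rot 30 1, .rot 36 1,
   .rot 32 0, .rot 34 0, .rot 62 1, .rot 47 1, .rot 34 1, .rot 41 1, .rot 60 1, .rot 56 0, .rot 57 1, .rot 52 0,
   .rot 27 0, .rot 10 1, .rot 19 0, .rot 15 0, .rot 20 0, .rot 23 1, .rot 61 0, .rot 47 1, .rot 52 1, .rot 60 1,
   .rot 56 0, .rot 51 0, .rot 57 0, .rot 45 0, .rot 61 1, .rot 53 0, .rot 57 1, .rot 46 0, .rot 36 0, .rot 33 0,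
   .rot 35 0, .rot 34 0, .rot 62 0, .rot 49 1, .rot 63 0, .rot 18 1, .rot 60 0]

theorem run1_ok : Cert.isSt (cert.run ops1 ⟨ckB0, ckK0⟩) ckB1 ckK1 = true := by decide +kernel

end CfsgLib.Spor.Fi24.Clo
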