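import Cfsg.Agent.Lib.Spor.Fi24.Sys
import Cfsg.Agent.Lib.BitPerm.Closure

/-!
The certificate for the cosets of the subgroup without k.
-/

set_option Elab.async false

namespace CfsgLib.Spor.Fi24.Clo

open CfsgLib.BitPerm

/-- the certificate -/
noncomputable def cert : Cert where
  toSys := sys
  rels := [[0, 1, 0, 1, 0, 1],
   [0, 2, 0, 2],
   [0, 3, 0, 3],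
   [0, 4, 0, 4],
   [0, 5, 0, 5],
   [0, 6, 0, 6],
   [0, 7, 0, 7],
   [0, 8, 0, 8],
   [0, 9, 0, 9],
   [0, 10, 0, 10],
   [0, 11, 0, 11],
   [1, 2, 1, 2, 1, 2],
   [1, 3, 1, 3],
   [1, 4, 1, 4],
   [1, 5, 1, 5],
   [1, 6, 1, 6],
   [1, 7, 1, 7],
   [1, 8, 1, 8],
   [1, 9, 1, 9],
   [1, 10, 1, 10],
   [1, 11, 1, 11],
   [2, 3, 2, 3, 2, 3],
   [2, 4, 2, 4],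
   [2, 5, 2, 5],
   [2, 6, 2, 6],
   [2, 7, 2, 7],
   [2, 8, 2, 8],
   [2, 9, 2, 9],
   [2, 10, 2, 10],
   [2, 11, 2, 11],
   [3, 4, 3, 4, 3, 4],
   [3, 5, 3, 5],
   [3, 6, 3, 6],
   [3, 7, 3, 7],
   [3, 8, 3, 8],
   [3, 9, 3, 9],
   [3, 10, 3, 10],
   [3, 11, 3, 11],
   [4, 5, 4, 5, 4, 5],
   [4, 6, 4, 6],
   [4, 7, 4, 7],
   [4, 8, 4, 8],
   [4, 9, 4, 9],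
   [4, 10, 4, 10],
   [4, 11, 4, 11],
   [5, 6, 5, 6, 5, 6],
   [5, 7, 5, 7],
   [5, 8, 5, 8],
   [5, 9, 5, 9],
   [5, 10, 5, 10, 5, 10],
   [5, 11, 5, 11],
   [6, 7, 6, 7, 6, 7],
   [6, 8, 6, 8],
   [6, 9, 6, 9],
   [6, 10, 6, 10],
   [6, 11, 6, 11],
   [7, 8, 7, 8, 7, 8],
   [7, 9, 7, 9],
   [7, 10, 7, 10],
   [7, 11, 7, 11],
   [8, 9, 8, 9, 8, 9],
   [8, 10, 8, 10],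
   [8, 11, 8, 11],
   [9, 10, 9, 10],
   [9, 11, 9, 11],
   [10, 11, 10, 11, 10, 11],
   [2, 3, 4, 5, 6, 7, 10, 2, 3, 4, 5, 6, 7, 10, 2, 3, 4, 5, 6, 7, 10, 2, 3, 4, 5, 6, 7, 10, 2, 3, 4, 5, 6, 7, 10, 2, 3, 4, 5, 6, 7, 10, 2, 3, 4, 5, 6, 7, 10, 2, 3, 4, 5, 6, 7, 10, 2, 3, 4, 5, 6, 7, 10, 0],
   [5, 4, 3, 2, 1, 0, 5, 6, 7, 8, 9, 5, 10, 11, 5, 4, 3, 2, 1, 0, 5, 6, 7, 8, 9, 5, 10, 11, 5, 4, 3, 2, 1, 0, 5, 6, 7, 8, 9, 5, 10, 11, 5, 4, 3, 2, 1, 0, 5, 6, 7, 8, 9, 5, 10, 11, 5, 4, 3, 2, 1, 0, 5, 6, 7, 8, 9, 5, 10, 11, 5, 4, 3, 2, 1, 0, 5, 6, 7, 8, 9, 5, 10, 11, 5, 4, 3, 2, 1, 0, 5, 6, 7, 8, 9, 5, 10, 11, 5, 4, 3, 2, 1, 0, 5, 6, 7, 8, 9, 5, 10, 11, 5, 4, 3, 2, 1, 0, 5, 6, 7, 8, 9, 5, 10, 11, 5, 4, 3, 2, 1, 0,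 5, 6, 7, 8, 9, 5, 10, 11, 5, 4, 3, 2, 1, 0, 5, 6, 7, 8, 9, 5, 10, 11, 5, 4, 3, 2, 1, 0, 5, 6, 7, 8, 9, 5, 10, 11, 5, 4, 3, 2, 1, 0, 5, 6, 7, 8, 9, 5, 10, 11, 5, 4, 3, 2, 1, 0, 5, 6, 7, 8, 9, 5, 10, 11, 5, 4, 3, 2, 1, 0, 5, 6, 7, 8, 9, 5, 10, 11, 5, 4, 3, 2, 1, 0, 5, 6, 7, 8, 9, 5, 10, 11, 5, 4, 3, 2, 1, 0, 5, 6, 7, 8, 9, 5, 10, 11],
   [11, 10, 5, 6, 4, 5, 10, 7, 6, 5, 4, 3, 4, 5, 6, 7, 10, 5, 4, 6, 5, 10, 11, 10, 5, 6, 4, 5, 10, 7, 6, 5, 4, 3, 4, 5, 6, 7, 10, 5, 4, 6, 5, 10, 11, 10, 5, 6, 4, 5, 10, 7, 6, 5, 4, 3, 4, 5, 6, 7, 10, 5, 4, 6, 5, 10],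
   [8, 7, 6, 5, 4, 3, 10, 8, 7, 6, 5, 4, 3, 10, 8, 7, 6, 5, 4, 3, 10, 8, 7, 6, 5, 4, 3, 10, 8, 7, 6, 5, 4, 3, 10, 8, 7, 6, 5, 4, 3, 10, 8, 7, 6, 5, 4, 3, 10, 8, 7, 6, 5, 4, 3, 10, 8, 7, 6, 5, 4, 3, 10, 11, 10, 3, 4, 5, 6, 7, 8, 10, 3, 4, 5, 6, 7, 8, 10, 3, 4, 5, 6, 7, 8, 10, 3, 4, 5, 6, 7, 8, 10, 3, 4, 5, 6, 7, 8, 10, 3, 4, 5, 6, 7, 8, 10, 3, 4, 5, 6, 7, 8, 10, 3, 4, 5, 6, 7, 8, 10, 3, 4, 5, 6, 7, 8, 11]]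
  subs := [0, 2, 3, 4, 5, 6, 7, 8, 9, 10, 11]

end CfsgLib.Spor.Fi24.Clo
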