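import Cfsg.Agent.Lib.Spor.Fi24.CloRun9
import Cfsg.Agent.Lib.Spor.Fi24.CloCert
import Cfsg.Agent.Lib.Spor.Fi24.CloState10
import Cfsg.Agent.Lib.Spor.Fi24.CloState11

/-!
Steps of the closure.
-/

set_option Elab.async false

namespace CfsgLib.Spor.Fi24.Clo

open CfsgLib.BitPerm

/-- steps -/
def ops11 : List Op :=
  [.rot 26 0, .rot 50 1, .rot 41 1, .rot 13 1, .rot 39 1, .rot 23 1, .rot 23 0, .rot 51 1, .rot 61 1, .rot 65 1,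
   .rot 42 1, .rot 3 1, .rot 66 1, .rot 37 0, .rot 34 0, .rot 12 1, .rot 36 0, .rot 33 0, .rot 31 0, .rot 32 0,
   .rot 35 0, .rot 2 1, .rot 37 0, .rot 36 0, .rot 34 0, .rot 31 1, .rot 33 0, .rot 12 0, .rot 37 0, .rot 30 1,
   .rot 34 0, .rot 31 1, .rot 23 0, .rot 22 0, .rot 21 1, .rot 24 0, .rot 12 0, .rot 23 1, .rot 38 0, .rot 30 0,
   .rot 38 1, .rot 23 0, .rot 28 0, .rot 31 0, .rot 35 0, .rot 30 1, .rot 13 0, .rot 2 0, .rot 36 1, .rot 25 0,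
   .rot 39 0, .rot 43 0, .rot 22 0, .rot 40 0, .rot 30 0, .rot 38 1, .rot 31 1, .rot 45 1, .rot 14 0, .rot 23 0,
   .rot 41 0, .rot 43 1, .rot 24 0, .rot 22 1, .rot 25 0, .rot 26 0, .rot 27 0, .rot 23 1, .rot 21 1, .rot 12 1,
   .rot 42 0, .rot 11 0, .rot 0 0, .rot 31 1, .rot 36 0, .rot 37 0, .rot 36 1, .rot 13 1, .rot 65 1, .rot 29 0,
   .rot 31 0, .rot 12 0, .rot 22 1, .rot 38 1, .rot 43 1, .rot 32 1, .rot 49 1, .rot 30 0, .rot 31 1, .rot 14 0,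
   .rot 51 1, .rot 19 1, .rot 54 0, .rot 32 0, .rot 30 1, .rot 28 0, .rot 4 0, .rot 15 0, .rot 56 1, .rot 29 0,
   .rot 23 1, .rot 21 1, .rot 45 1, .rot 54 1, .rot 43 1, .rot 5 0, .rot 22 1, .rot 1 1, .rot 39 1, .rot 33 0,
   .rot 34 0, .rot 36 1, .rot 3 1, .rot 24 0, .rot 58 0, .rot 60 1, .rot 26 0, .rot 25 0, .rot 22 1, .rot 35 0,
   .rot 31 1, .rot 61 0, .rot 15 0, .rot 50 1, .rot 28 1, .rot 63 0, .rot 38 1, .rot 32 0, .rot 12 0, .rot 2 0,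
   .rot 43 1, .rot 33 0, .rot 32 1, .rot 51 1]

theorem run11_ok : Cert.isSt (cert.run ops11 ⟨ckB10, ckK10⟩) ckB11 ckK11 = true := by decide +kernel

end CfsgLib.Spor.Fi24.Clo
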