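import Cfsg.Agent.Lib.Spor.Fi24.CloRun10
import Cfsg.Agent.Lib.Spor.Fi24.CloCert
import Cfsg.Agent.Lib.Spor.Fi24.CloState11

/-!
Steps of the closure.
-/

set_option Elab.async false

namespace CfsgLib.Spor.Fi24.Clo

open CfsgLib.BitPerm

/-- steps -/
def ops12 : List Op :=
  [.rot 6 0, .rot 36 1, .rot 16 0, .rot 21 0, .rot 26 1, .rot 29 1, .rot 13 1, .rot 27 1, .rot 52 0, .rot 52 1,
   .rot 40 0, .rot 53 1, .rot 43 1, .rot 4 1, .rot 32 0, .rot 1 0, .rot 1 1, .rot 67 0, .rot 4 1, .rot 50 0,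
   .rot 23 1, .rot 48 0, .rot 38 0, .rot 31 1, .rot 49 1, .rot 45 1, .rot 65 1, .rot 54 1, .rot 47 0, .rot 14 1,
   .rot 38 0, .rot 30 0, .rot 21 0, .rot 39 0, .rot 45 1, .rot 51 1, .rot 56 1, .rot 54 0, .rot 58 1, .rot 65 1,
   .rot 23 1, .rot 32 0, .rot 61 1, .rot 58 0, .rot 11 0, .rot 46 1, .rot 50 1, .rot 31 0, .rot 21 0, .rot 56 1,
   .rot 60 1, .rot 24 1, .rot 22 1, .rot 40 1, .rot 44 1, .rot 22 0, .rot 11 0, .rot 19 1, .rot 41 1, .rot 52 1,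
   .rot 39 1, .rot 46 0, .rot 60 1, .rot 57 1, .rot 12 0, .rot 59 0, .rot 4 1, .rot 43 1, .rot 55 0, .rot 34 1,
   .rot 2 1, .rot 20 1, .rot 6 1, .rot 14 1, .rot 27 1, .rot 3 1, .rot 7 1, .rot 9 1, .rot 1 1, .rot 8 1]

theorem run12_ok : cert.isFull (cert.run ops12 ⟨ckB11, ckK11⟩) 306936 = true := by decide +kernel

end CfsgLib.Spor.Fi24.Clo
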