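import Cfsg.Agent.Lib.Spor.Fi24.CloRun0
import Cfsg.Agent.Lib.Spor.Fi24.CloCert
import Cfsg.Agent.Lib.Spor.Fi24.CloState1
import Cfsg.Agent.Lib.Spor.Fi24.CloState2

/-!
Steps of the closure.
-/

set_option Elab.async false

namespace CfsgLib.Spor.Fi24.Clo

open CfsgLib.BitPerm

/-- steps -/
def ops2 : List Op :=
  [.rot 64 0, .rot 47 0, .rot 48 0, .rot 22 1, .rot 50 0, .rot 23 0, .rot 21 1, .rot 35 0, .rot 16 0, .rot 29 1,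
   .rot 37 1, .rot 53 1, .rot 6 1, .rot 54 1, .rot 58 0, .rot 9 0, .rot 5 0, .rot 10 0, .rot 3 1, .rot 55 0,
   .rot 54 0, .rot 21 0, .rot 22 0, .rot 23 0, .rot 27 1, .rot 60 0, .rot 56 0, .rot 13 1, .rot 40 1, .rot 38 1,
   .rot 31 1, .rot 45 1, .rot 49 1, .rot 54 1, .rot 58 1, .rot 65 1, .rot 61 1, .rot 49 0, .rot 43 1, .rot 63 1,
   .rot 65 1, .rot 50 1, .rot 55 1, .rot 65 0, .rot 49 0, .rot 38 0, .rot 45 1, .rot 39 0, .rot 51 1, .rot 56 1,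
   .rot 59 1, .rot 39 1, .rot 32 1, .rot 19 1, .rot 36 1, .rot 43 1, .rot 9 1, .rot 40 0, .rot 43 0, .rot 41 0,
   .rot 22 1, .rot 50 0, .rot 42 0, .rot 13 1, .rot 24 0, .rot 55 0, .rot 51 1, .rot 46 1, .rot 56 1, .rot 61 0,
   .rot 60 1, .rot 58 0, .rot 51 0, .rot 45 0, .rot 52 0, .rot 14 1, .rot 28 1, .rot 65 1, .rot 46 0, .rot 47 0,
   .rot 49 1, .rot 65 1, .rot 44 1, .rot 38 0, .rot 30 0, .rot 48 0, .rot 23 1, .rot 45 1, .rot 51 1, .rot 59 0,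
   .rot 56 1, .rot 55 0, .rot 39 1, .rot 32 1, .rot 45 0, .rot 46 0, .rot 49 1, .rot 65 1, .rot 38 0, .rot 43 0,
   .rot 39 0, .rot 54 1, .rot 43 1, .rot 65 1, .rot 50 1, .rot 62 1, .rot 37 1, .rot 65 0, .rot 49 0, .rot 45 1,
   .rot 51 1, .rot 56 1, .rot 60 1, .rot 39 1, .rot 40 1, .rot 46 1, .rot 56 1, .rot 60 1, .rot 52 1, .rot 61 0,
   .rot 60 1, .rot 57 1, .rot 62 0, .rot 56 0, .rot 51 0, .rot 45 0, .rot 53 0, .rot 57 0, .rot 38 0, .rot 30 0,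
   .rot 16 1, .rot 56 1, .rot 48 0, .rot 49 1, .rot 60 1, .rot 15 1, .rot 31 0]

theorem run2_ok : Cert.isSt (cert.run ops2 ⟨ckB1, ckK1⟩) ckB2 ckK2 = true := by decide +kernel

end CfsgLib.Spor.Fi24.Clo
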