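import Cfsg.Agent.Lib.Spor.Fi24.CloRun1
import Cfsg.Agent.Lib.Spor.Fi24.CloCert
import Cfsg.Agent.Lib.Spor.Fi24.CloState2
import Cfsg.Agent.Lib.Spor.Fi24.CloState3

/-!
Steps of the closure.
-/

set_option Elab.async false

namespace CfsgLib.Spor.Fi24.Clo

open CfsgLib.BitPerm

/-- steps -/
def ops3 : List Op :=
  [.rot 65 1, .rot 44 1, .rot 55 1, .rot 59 1, .rot 65 0, .rot 62 1, .rot 29 1, .rot 65 0, .rot 49 0, .rot 38 0,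
   .rot 39 0, .rot 40 0, .rot 13 1, .rot 41 0, .rot 3 1, .rot 42 0, .rot 30 0, .rot 31 0, .rot 32 0, .rot 36 0,
   .rot 37 0, .rot 33 0, .rot 21 0, .rot 22 0, .rot 23 0, .rot 34 0, .rot 35 0, .rot 14 1, .rot 31 0, .rot 28 0,
   .rot 24 0, .rot 25 0, .rot 26 0, .rot 27 0, .rot 19 1, .rot 64 1, .rot 20 1, .rot 55 1, .rot 65 0, .rot 26 1,
   .rot 45 1, .rot 36 1, .rot 9 1, .rot 65 1, .rot 43 1, .rot 49 0, .rot 50 0, .rot 58 1, .rot 65 1, .rot 50 1,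
   .rot 25 1, .rot 55 1, .rot 48 1, .rot 53 1, .rot 42 1, .rot 60 0, .rot 56 0, .rot 51 0, .rot 63 0, .rot 27 1,
   .rot 61 0, .rot 8 1, .rot 35 1, .rot 60 0, .rot 56 0, .rot 51 0, .rot 57 1, .rot 48 1, .rot 42 1, .rot 60 0,
   .rot 56 0, .rot 51 0, .rot 45 0, .rot 38 0, .rot 49 1, .rot 43 0, .rot 32 0, .rot 29 0, .rot 52 0, .rot 54 0,
   .rot 51 1, .rot 56 1, .rot 60 1, .rot 64 0, .rot 48 1, .rot 60 0, .rot 56 0, .rot 55 0, .rot 45 0, .rot 46 0,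
   .rot 25 0, .rot 63 0, .rot 53 1, .rot 57 1, .rot 60 0, .rot 56 0, .rot 51 0, .rot 17 1, .rot 18 1, .rot 64 0,
   .rot 8 1, .rot 35 1, .rot 60 0, .rot 56 0, .rot 51 0, .rot 42 1, .rot 41 1, .rot 45 0, .rot 40 1, .rot 49 1,
   .rot 38 0, .rot 53 1, .rot 48 1, .rot 60 0, .rot 39 0, .rot 39 1, .rot 6 0, .rot 17 0, .rot 65 1, .rot 30 0,
   .rot 33 0, .rot 59 1, .rot 62 1, .rot 65 0, .rot 56 0, .rot 12 1, .rot 23 1, .rot 7 0, .rot 40 0, .rot 52 0,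
   .rot 31 1, .rot 23 0, .rot 41 0, .rot 38 1, .rot 8 0, .rot 18 0, .rot 49 1, .rot 27 1, .rot 34 0, .rot 30 1]

theorem run3_ok : Cert.isSt (cert.run ops3 ⟨ckB2, ckK2⟩) ckB3 ckK3 = true := by decide +kernel

end CfsgLib.Spor.Fi24.Clo
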