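import Cfsg.Agent.Lib.Spor.Fi24.CloRun2
import Cfsg.Agent.Lib.Spor.Fi24.CloCert
import Cfsg.Agent.Lib.Spor.Fi24.CloState3
import Cfsg.Agent.Lib.Spor.Fi24.CloState4

/-!
Steps of the closure.
-/

set_option Elab.async false

namespace CfsgLib.Spor.Fi24.Clo

open CfsgLib.BitPerm

/-- steps -/
def ops4 : List Op :=
  [.rot 26 0, .rot 63 0, .rot 53 1, .rot 60 0, .rot 64 0, .rot 45 1, .rot 21 0, .rot 43 0, .rot 56 0, .rot 24 0,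
   .rot 28 0, .rot 36 0, .rot 44 1, .rot 62 0, .rot 51 0, .rot 45 0, .rot 44 0, .rot 1 0, .rot 54 1, .rot 25 0,
   .rot 38 1, .rot 49 1, .rot 65 1, .rot 59 0, .rot 23 0, .rot 22 0, .rot 26 0, .rot 57 1, .rot 54 1, .rot 58 1,
   .rot 36 1, .rot 49 0, .rot 45 1, .rot 51 1, .rot 50 0, .rot 61 1, .rot 55 0, .rot 38 0, .rot 22 1, .rot 39 0,
   .rot 30 0, .rot 41 0, .rot 42 0, .rot 40 0, .rot 30 0, .rot 43 0, .rot 41 0, .rot 38 1, .rot 30 0, .rot 31 0,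
   .rot 32 0, .rot 35 0, .rot 36 0, .rot 33 0, .rot 37 0, .rot 34 0, .rot 35 0, .rot 30 1, .rot 49 1, .rot 45 1,
   .rot 51 1, .rot 56 1, .rot 60 1, .rot 65 1, .rot 54 0, .rot 54 1, .rot 38 1, .rot 36 0, .rot 45 1, .rot 51 1,
   .rot 56 1, .rot 60 1, .rot 58 0, .rot 46 1, .rot 59 0, .rot 56 1, .rot 60 1, .rot 51 0, .rot 45 0, .rot 52 1,
   .rot 53 1, .rot 49 1, .rot 65 1, .rot 19 1, .rot 57 1, .rot 60 0, .rot 56 0, .rot 51 0, .rot 15 1, .rot 45 0,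
   .rot 43 1, .rot 65 1, .rot 36 1, .rot 58 1, .rot 43 1, .rot 65 1, .rot 50 1, .rot 62 1, .rot 64 1, .rot 65 0,
   .rot 55 1, .rot 49 0, .rot 38 0, .rot 59 1, .rot 39 0, .rot 16 1, .rot 17 1, .rot 18 1, .rot 26 1, .rot 27 1,
   .rot 13 0, .rot 12 0, .rot 14 0, .rot 19 0, .rot 15 0, .rot 13 0, .rot 20 0, .rot 14 0, .rot 16 0, .rot 12 0,
   .rot 17 0, .rot 15 0, .rot 13 0, .rot 19 0, .rot 18 0, .rot 16 0, .rot 20 0, .rot 14 0, .rot 17 0, .rot 19 0,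
   .rot 15 0, .rot 16 0, .rot 18 0, .rot 20 0, .rot 12 0, .rot 17 0, .rot 13 0, .rot 18 0, .rot 14 0, .rot 15 0,
   .rot 13 0]

theorem run4_ok : Cert.isSt (cert.run ops4 ⟨ckB3, ckK3⟩) ckB4 ckK4 = true := by decide +kernel

end CfsgLib.Spor.Fi24.Clo
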