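import Cfsg.Agent.Lib.Spor.Fi24.CloRun3
import Cfsg.Agent.Lib.Spor.Fi24.CloCert
import Cfsg.Agent.Lib.Spor.Fi24.CloState4
import Cfsg.Agent.Lib.Spor.Fi24.CloState5

/-!
Steps of the closure.
-/

set_option Elab.async false

namespace CfsgLib.Spor.Fi24.Clo

open CfsgLib.BitPerm

/-- steps -/
def ops5 : List Op :=
  [.rot 12 0, .rot 16 0, .rot 17 0, .rot 18 0, .rot 11 1, .rot 1 1, .rot 14 0, .rot 28 0, .rot 13 0, .rot 19 0,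
   .rot 17 1, .rot 56 0, .rot 51 0, .rot 18 1, .rot 12 1, .rot 40 0, .rot 65 0, .rot 6 1, .rot 7 1, .rot 62 1,
   .rot 23 1, .rot 23 0, .rot 24 0, .rot 28 0, .rot 63 0, .rot 25 0, .rot 29 0, .rot 23 0, .rot 21 1, .rot 26 0,
   .rot 22 0, .rot 28 0, .rot 27 0, .rot 24 0, .rot 21 1, .rot 30 1, .rot 38 1, .rot 23 0, .rot 11 0, .rot 29 0,
   .rot 12 0, .rot 25 0, .rot 21 1, .rot 30 1, .rot 38 1, .rot 49 1, .rot 54 1, .rot 58 1, .rot 61 1, .rot 19 1,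
   .rot 65 1, .rot 28 1, .rot 29 1, .rot 63 1, .rot 49 0, .rot 50 0, .rot 45 1, .rot 51 1, .rot 64 1, .rot 50 1,
   .rot 58 1, .rot 56 1, .rot 60 1, .rot 59 1, .rot 55 1, .rot 41 0, .rot 46 0, .rot 39 1, .rot 61 0, .rot 28 0,
   .rot 24 0, .rot 11 0, .rot 20 0, .rot 16 0, .rot 11 1, .rot 26 0, .rot 21 1, .rot 31 0, .rot 23 0, .rot 11 0,
   .rot 18 0, .rot 27 0, .rot 22 0, .rot 24 0, .rot 28 0, .rot 11 0, .rot 21 1, .rot 30 1, .rot 38 1, .rot 49 1,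
   .rot 54 1, .rot 58 1, .rot 61 1, .rot 54 1, .rot 49 0, .rot 45 1, .rot 50 0, .rot 65 1, .rot 51 1, .rot 56 1,
   .rot 12 0, .rot 25 0, .rot 60 1, .rot 16 0, .rot 63 1, .rot 33 0, .rot 40 0, .rot 23 0, .rot 31 0, .rot 32 0,
   .rot 34 0, .rot 48 0, .rot 59 1, .rot 55 0, .rot 58 0, .rot 46 0, .rot 50 1, .rot 64 1, .rot 54 0, .rot 26 0,
   .rot 11 0, .rot 55 1, .rot 65 0, .rot 13 0, .rot 58 1, .rot 59 0, .rot 47 1, .rot 41 0, .rot 22 1, .rot 59 1,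
   .rot 62 1, .rot 62 0, .rot 64 0, .rot 42 1, .rot 33 0, .rot 5 1, .rot 41 1, .rot 4 0, .rot 3 0, .rot 5 0,
   .rot 2 0, .rot 9 0, .rot 4 0, .rot 6 0, .rot 9 0, .rot 3 0, .rot 5 0]

theorem run5_ok : Cert.isSt (cert.run ops5 ⟨ckB4, ckK4⟩) ckB5 ckK5 = true := by decide +kernel

end CfsgLib.Spor.Fi24.Clo
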