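import Cfsg.Agent.Lib.Spor.Fi24.CloRun4
import Cfsg.Agent.Lib.Spor.Fi24.CloCert
import Cfsg.Agent.Lib.Spor.Fi24.CloState5
import Cfsg.Agent.Lib.Spor.Fi24.CloState6

/-!
Steps of the closure.
-/

set_option Elab.async false

namespace CfsgLib.Spor.Fi24.Clo

open CfsgLib.BitPerm

/-- steps -/
def ops6 : List Op :=
  [.rot 10 0, .rot 4 0, .rot 6 0, .rot 7 0, .rot 2 0, .rot 1 0, .rot 5 0, .rot 3 0, .rot 9 0, .rot 6 0,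
   .rot 8 0, .rot 10 0, .rot 4 0, .rot 2 0, .rot 5 0, .rot 7 0, .rot 9 0, .rot 6 0, .rot 3 0, .rot 4 0,
   .rot 7 0, .rot 8 0, .rot 10 0, .rot 9 0, .rot 5 0, .rot 3 0, .rot 10 0, .rot 6 0, .rot 7 0, .rot 4 0,
   .rot 5 0, .rot 6 0, .rot 9 0, .rot 0 1, .rot 2 0, .rot 7 0, .rot 8 0, .rot 3 0, .rot 0 1, .rot 4 0,
   .rot 1 0, .rot 10 0, .rot 5 0, .rot 14 0, .rot 9 0, .rot 6 0, .rot 10 0, .rot 0 1, .rot 7 0, .rot 17 0,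
   .rot 8 0, .rot 18 0, .rot 3 0, .rot 14 1, .rot 40 1, .rot 1 1, .rot 19 0, .rot 15 0, .rot 20 0, .rot 5 1,
   .rot 0 0, .rot 1 0, .rot 2 0, .rot 6 0, .rot 4 0, .rot 3 0, .rot 7 0, .rot 8 0, .rot 5 0, .rot 9 0,
   .rot 4 0, .rot 6 0, .rot 0 1, .rot 2 0, .rot 5 0, .rot 3 0, .rot 9 0, .rot 0 1, .rot 10 0, .rot 4 0,
   .rot 6 0, .rot 7 0, .rot 0 1, .rot 2 0, .rot 12 0, .rot 8 0, .rot 5 0, .rot 6 0, .rot 9 0, .rot 0 1,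
   .rot 3 0, .rot 13 0, .rot 10 0, .rot 4 0, .rot 5 0, .rot 0 1, .rot 7 0, .rot 17 0, .rot 12 0, .rot 19 0,
   .rot 18 0, .rot 0 0, .rot 16 0, .rot 14 0, .rot 0 0, .rot 17 0, .rot 20 0, .rot 0 0, .rot 1 0, .rot 8 0,
   .rot 9 0, .rot 3 0, .rot 0 1, .rot 10 0, .rot 20 0, .rot 4 0, .rot 5 0, .rot 2 0, .rot 0 1, .rot 11 1,
   .rot 6 0, .rot 1 0, .rot 13 0, .rot 19 0, .rot 16 0, .rot 2 0, .rot 14 0, .rot 11 1, .rot 7 0, .rot 12 0,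
   .rot 17 0, .rot 13 0, .rot 4 0, .rot 8 0, .rot 3 0, .rot 26 0, .rot 15 0, .rot 18 0, .rot 27 0, .rot 1 1,
   .rot 28 0, .rot 25 0, .rot 24 0, .rot 21 1, .rot 23 0, .rot 14 0, .rot 19 0, .rot 16 0, .rot 2 0, .rot 9 0,
   .rot 28 0, .rot 20 0, .rot 15 0, .rot 4 0, .rot 29 0, .rot 17 0, .rot 16 0, .rot 23 0, .rot 14 0]

theorem run6_ok : Cert.isSt (cert.run ops6 ⟨ckB5, ckK5⟩) ckB6 ckK6 = true := by decide +kernel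

end CfsgLib.Spor.Fi24.Clo
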