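import Cfsg.Agent.Lib.Spor.Fi24.CloRun5
import Cfsg.Agent.Lib.Spor.Fi24.CloCert
import Cfsg.Agent.Lib.Spor.Fi24.CloState6
import Cfsg.Agent.Lib.Spor.Fi24.CloState7

/-!
Steps of the closure.
-/

set_option Elab.async false

namespace CfsgLib.Spor.Fi24.Clo

open CfsgLib.BitPerm

/-- steps -/
def ops7 : List Op :=
  [.rot 26 0, .rot 13 0, .rot 25 0, .rot 9 1, .rot 61 0, .rot 44 0, .rot 46 1, .rot 47 1, .rot 48 1, .rot 47 0,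
   .rot 51 0, .rot 52 0, .rot 5 0, .rot 6 0, .rot 7 0, .rot 8 0, .rot 18 0, .rot 26 0, .rot 27 0, .rot 48 0,
   .rot 52 1, .rot 53 1, .rot 57 1, .rot 61 0, .rot 30 1, .rot 38 1, .rot 45 1, .rot 49 1, .rot 51 1, .rot 56 0,
   .rot 57 0, .rot 56 1, .rot 60 0, .rot 60 1, .rot 65 1, .rot 66 0, .rot 25 0, .rot 29 0, .rot 24 0, .rot 26 0,
   .rot 23 0, .rot 27 0, .rot 25 0, .rot 22 0, .rot 11 1, .rot 28 0, .rot 24 0, .rot 23 0, .rot 26 0, .rot 22 0,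
   .rot 24 0, .rot 25 0, .rot 23 0, .rot 26 0, .rot 28 0, .rot 24 0, .rot 27 0, .rot 21 1, .rot 29 0, .rot 23 0,
   .rot 25 0, .rot 28 0, .rot 24 0, .rot 26 0, .rot 25 0, .rot 29 0, .rot 21 1, .rot 30 1, .rot 38 1, .rot 22 0,
   .rot 45 1, .rot 49 1, .rot 54 1, .rot 65 1, .rot 58 1, .rot 51 1, .rot 59 1, .rot 49 0, .rot 50 0, .rot 56 1,
   .rot 60 1, .rot 54 0, .rot 26 0, .rot 14 1, .rot 47 0, .rot 49 1, .rot 65 1, .rot 4 1, .rot 45 1, .rot 51 1,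
   .rot 56 1, .rot 60 1, .rot 29 1, .rot 10 1, .rot 65 0, .rot 36 1, .rot 37 1, .rot 43 1, .rot 44 1, .rot 63 1,
   .rot 49 0, .rot 64 1, .rot 50 1, .rot 55 1, .rot 45 1, .rot 38 0, .rot 20 1, .rot 65 0, .rot 59 1, .rot 51 1,
   .rot 56 1, .rot 60 1, .rot 58 1, .rot 39 1, .rot 40 1, .rot 41 1, .rot 42 1, .rot 62 1, .rot 49 0, .rot 39 0,
   .rot 33 1, .rot 34 1, .rot 35 1, .rot 23 0, .rot 32 1, .rot 61 1]

theorem run7_ok : Cert.isSt (cert.run ops7 ⟨ckB6, ckK6⟩) ckB7 ckK7 = true := by decide +kernel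

end CfsgLib.Spor.Fi24.Clo
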