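import Cfsg.Agent.Lib.Spor.Fi24.CloRun6
import Cfsg.Agent.Lib.Spor.Fi24.CloCert
import Cfsg.Agent.Lib.Spor.Fi24.CloState7
import Cfsg.Agent.Lib.Spor.Fi24.CloState8

/-!
Steps of the closure.
-/

set_option Elab.async false

namespace CfsgLib.Spor.Fi24.Clo

open CfsgLib.BitPerm

/-- steps -/
def ops8 : List Op :=
  [.rot 15 1, .rot 16 1, .rot 43 0, .rot 44 0, .rot 17 1, .rot 18 1, .rot 46 1, .rot 47 1, .rot 48 1, .rot 48 0,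
   .rot 52 1, .rot 61 0, .rot 60 1, .rot 57 1, .rot 64 0, .rot 28 1, .rot 29 1, .rot 30 0, .rot 58 0, .rot 40 0,
   .rot 62 0, .rot 12 1, .rot 31 0, .rot 13 1, .rot 45 0, .rot 59 0, .rot 32 0, .rot 33 0, .rot 46 0, .rot 55 0,
   .rot 34 0, .rot 36 0, .rot 45 1, .rot 40 1, .rot 58 0, .rot 31 1, .rot 46 1, .rot 51 0, .rot 52 0, .rot 53 0,
   .rot 68 11, .rot 34 0, .rot 21 0, .rot 22 0, .rot 11 0, .rot 14 0, .rot 12 0, .rot 16 0, .rot 18 0, .rot 15 0,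
   .rot 11 1, .rot 14 0, .rot 13 0, .rot 16 0, .rot 17 0, .rot 19 0, .rot 11 1, .rot 20 0, .rot 14 0, .rot 12 0,
   .rot 16 0, .rot 15 0, .rot 18 0, .rot 19 0, .rot 16 0, .rot 14 0, .rot 17 0, .rot 13 0, .rot 18 0, .rot 11 1,
   .rot 19 0, .rot 20 0, .rot 13 1, .rot 3 1, .rot 14 0, .rot 15 0, .rot 19 0, .rot 16 0, .rot 0 0, .rot 17 0,
   .rot 13 1, .rot 3 1, .rot 14 1, .rot 20 0, .rot 0 0, .rot 14 0, .rot 18 0, .rot 1 0, .rot 38 0, .rot 22 1,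
   .rot 39 0, .rot 42 0, .rot 43 0, .rot 44 0, .rot 40 0, .rot 23 1, .rot 0 0, .rot 15 0, .rot 19 0, .rot 20 0,
   .rot 0 0, .rot 11 1, .rot 28 1, .rot 19 1, .rot 11 0, .rot 14 1, .rot 41 0, .rot 16 0, .rot 21 1, .rot 36 1,
   .rot 65 0, .rot 43 1, .rot 49 0, .rot 31 1, .rot 38 0, .rot 17 0, .rot 39 0, .rot 1 0, .rot 45 1, .rot 6 0,
   .rot 51 1, .rot 56 1, .rot 60 1, .rot 19 1, .rot 9 1, .rot 40 0, .rot 39 1, .rot 4 1, .rot 6 1, .rot 7 1,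
   .rot 8 1, .rot 5 1, .rot 40 1]

theorem run8_ok : Cert.isSt (cert.run ops8 ⟨ckB7, ckK7⟩) ckB8 ckK8 = true := by decide +kernel

end CfsgLib.Spor.Fi24.Clo
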