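import Cfsg.Agent.Lib.Spor.Fi24.CloRun7
import Cfsg.Agent.Lib.Spor.Fi24.CloCert
import Cfsg.Agent.Lib.Spor.Fi24.CloState8
import Cfsg.Agent.Lib.Spor.Fi24.CloState9

/-!
Steps of the closure.
-/

set_option Elab.async false

namespace CfsgLib.Spor.Fi24.Clo

open CfsgLib.BitPerm

/-- steps -/
def ops9 : List Op :=
  [.rot 41 1, .rot 42 1, .rot 23 1, .rot 7 0, .rot 23 0, .rot 54 0, .rot 38 1, .rot 46 1, .rot 47 1, .rot 48 1,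
   .rot 58 0, .rot 61 0, .rot 63 0, .rot 45 1, .rot 66 6, .rot 19 1, .rot 61 1, .rot 58 1, .rot 63 1, .rot 54 1,
   .rot 9 1, .rot 28 1, .rot 61 1, .rot 58 1, .rot 49 0, .rot 50 0, .rot 38 0, .rot 39 0, .rot 43 0, .rot 40 0,
   .rot 41 0, .rot 30 0, .rot 31 0, .rot 42 0, .rot 32 0, .rot 36 0, .rot 33 0, .rot 35 0, .rot 12 1, .rot 37 0,
   .rot 34 0, .rot 30 1, .rot 38 1, .rot 49 1, .rot 54 1, .rot 65 1, .rot 58 1, .rot 36 1, .rot 65 1, .rot 61 1,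
   .rot 35 0, .rot 49 0, .rot 45 1, .rot 62 1, .rot 63 1, .rot 64 1, .rot 19 1, .rot 20 1, .rot 40 0, .rot 32 0,
   .rot 12 0, .rot 13 0, .rot 0 1, .rot 39 1, .rot 28 0, .rot 14 1, .rot 28 1, .rot 50 1, .rot 54 0, .rot 23 0,
   .rot 23 1, .rot 48 0, .rot 38 0, .rot 51 1, .rot 34 1, .rot 35 1, .rot 39 0, .rot 14 0, .rot 19 1, .rot 24 0,
   .rot 40 0, .rot 15 1, .rot 4 1, .rot 44 1, .rot 41 0, .rot 56 1, .rot 55 0, .rot 14 1, .rot 23 1, .rot 39 0,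
   .rot 42 1, .rot 54 0, .rot 15 0, .rot 25 0, .rot 30 0, .rot 59 0, .rot 12 1, .rot 13 1, .rot 23 0, .rot 62 0,
   .rot 46 0, .rot 54 1, .rot 16 1, .rot 69 32]

theorem run9_ok : Cert.isSt (cert.run ops9 ⟨ckB8, ckK8⟩) ckB9 ckK9 = true := by decide +kernel

end CfsgLib.Spor.Fi24.Clo
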