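import Cfsg.Agent.Lib.Spor.Fi24.CentI

/-!
Derived relations of the presented group Fi24: the second centre of a node subgroup of type E7
commutes with `i`, two transpositions spanning an affine root system have product of order three,
and the spider word commutes with every generator other than `k`.
-/

namespace CfsgLib.Spor.Fi24

open CfsgLib.PresCert Cfsg.Spor

theorem gen_inv (x : Fi24.Gen) : (gen x)⁻¹ = gen x := inv_eq_of_mul_eq_one_left (gen_sq x)

/-- the value of a word -/
noncomputable abbrev ev (w : List Fi24.Gen) : Cfsg.Spor.Fi24 := (w.map gen).prod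

theorem ev_append (u w : List Fi24.Gen) : ev (u ++ w) = ev u * ev w := by simp [ev]

theorem ev_cons (x : Fi24.Gen) (w : List Fi24.Gen) : ev (x :: w) = gen x * ev w := by simp [ev]

theorem ev_reverse (w : List Fi24.Gen) : ev w.reverse = (ev w)⁻¹ :=
  prod_reverse_of_invol gen gen_sq w

/-- the word of the centre of the node subgroup on `b, …, h, g` -/
def zPrime : List Fi24.Gen := (List.replicate 9 [.g, .f, .e, .d, .c, .b, .h]).flatten

theorem zPrime_comm : Commute (ev zPrime) (gen .i) :=
  commute_of_walk zPrime (by decide +kernel) (by decide +kernel)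

/-- words conjugating `i` to the other generators -/
def conjW : Fi24.Gen → List Fi24.Gen
  | .i => [] | .h => [.i, .h] | .d => [.h, .d, .i, .h] | .c => [.d, .c, .h, .d, .i, .h]
  | .e => [.d, .e, .h, .d, .i, .h] | .b => [.c, .b, .d, .c, .h, .d, .i, .h]
  | .f => [.e, .f, .d, .e, .h, .d, .i, .h] | .a => [.b, .a, .c, .b, .d, .c, .h, .d, .i, .h]
  | .g => [.f, .g, .e, .f, .d, .e, .h, .d, .i, .h]
  | _ => []

theorem conj_step {x y : Fi24.Gen} (h : coxLabel Fi24.edges x y = 3) {w : List Fi24.Gen}
    (hw : gen x = ev w * gen .i * (ev w)⁻¹) :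
    gen y = ev (x :: y :: w) * gen .i * (ev (x :: y :: w))⁻¹ := by
  have e : ev (x :: y :: w) * gen .i * (ev (x :: y :: w))⁻¹ = gen x * gen y * gen x * gen y * gen x := by
    rw [ev_cons, ev_cons, mul_inv_rev, mul_inv_rev, gen_inv, gen_inv,
      show gen x * gen y * gen x * gen y * gen x =
        gen x * gen y * (ev w * gen .i * (ev w)⁻¹) * (gen y * gen x) by
          rw [← hw]; simp only [mul_assoc]]
    simp only [mul_assoc]
  rw [e]
  calc gen y = gen y * (gen x * gen x) := by rw [gen_sq, mul_one]
    _ = gen y * gen x * (gen y * gen y) * gen x := by simp only [gen_sq, mul_one, mul_assoc]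
    _ = (gen y * gen x * gen y) * gen y * gen x := by simp only [mul_assoc]
    _ = gen x * gen y * gen x * gen y * gen x := by rw [← braid h]

theorem conjW_spec : ∀ x : Fi24.Gen, x ≠ .j → x ≠ .k → x ≠ .l →
    gen x = ev (conjW x) * gen .i * (ev (conjW x))⁻¹ := by
  have hi : gen .i = ev (conjW .i) * gen .i * (ev (conjW .i))⁻¹ := by simp [conjW, ev]
  have hh := conj_step (x := .i) (y := .h) (by decide) hi
  have hd := conj_step (x := .h) (y := .d) (by decide) hh
  have hc := conj_step (x := .d) (y := .c) (by decide) hd
  have he := conj_step (x := .d) (y := .e) (by decide) hd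
  have hb := conj_step (x := .c) (y := .b) (by decide) hc
  have hf := conj_step (x := .e) (y := .f) (by decide) he
  have ha := conj_step (x := .b) (y := .a) (by decide) hb
  have hg := conj_step (x := .f) (y := .g) (by decide) hf
  intro x h1 h2 h3
  cases x <;> first | contradiction | assumption

/-- an element whose conjugate commutes with `i` commutes with the conjugated generator -/
theorem commute_conj {x : Fi24.Gen} {q : Cfsg.Spor.Fi24} (v : List Fi24.Gen)
    (hx : gen x = ev v * gen .i * (ev v)⁻¹) (h : Commute ((ev v)⁻¹ * q * ev v) (gen .i)) :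
    Commute q (gen x) := by
  have e : q * (ev v * gen .i * (ev v)⁻¹) = ev v * (((ev v)⁻¹ * q * ev v) * gen .i) * (ev v)⁻¹ := by
    simp only [mul_assoc, mul_inv_cancel_left]
  rw [Commute, SemiconjBy, hx, e, h.eq]
  simp only [mul_assoc, mul_inv_cancel, mul_one]

/-- the word of the spider -/
def spiderWord : List Fi24.Gen :=
  (List.replicate 10 [.d, .c, .b, .d, .e, .f, .d, .h, .i]).flatten

theorem spider_walk : ∀ x ∈ ([.a, .b, .c, .d, .e, .f, .g, .h, .i] : List Fi24.Gen),
    (((conjW x).reverse ++ spiderWord ++ conjW x).all fun y => Nat.blt (oIdx y) 11) = true ∧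
      CentI.cert.walk 524288 (((conjW x).reverse ++ spiderWord ++ conjW x).map oIdx) 0 = some 0 := by
  decide +kernel

theorem spider_comm {x : Fi24.Gen} (hx : x ≠ .k) : Commute (ev spiderWord) (gen x) := by
  have hnb : ∀ y : Fi24.Gen, (∀ z ∈ spiderWord, coxLabel Fi24.edges z y = 2) →
      Commute (ev spiderWord) (gen y) := fun y hy => by
    refine Commute.list_prod_left _ _ fun q hq => ?_
    obtain ⟨z, hz, rfl⟩ := List.mem_map.1 hq
    exact comm_of_label (hy z hz)
  by_cases hj : x = .j
  · exact hnb x (by subst hj; decide +kernel)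
  by_cases hl : x = .l
  · exact hnb x (by subst hl; decide +kernel)
  refine commute_conj (conjW x) (conjW_spec x hj hx hl) ?_
  obtain ⟨h1, h2⟩ := spider_walk x (by cases x <;> first | contradiction | decide)
  have := commute_of_walk _ (fun y hy => Nat.blt_eq.mp (List.all_eq_true.1 h1 y hy)) h2
  change Commute (ev _) _ at this
  rwa [ev_append, ev_append, ev_reverse] at this

/-- a conjugate of `b` orthogonal to `b, …, f, h` up to sign -/
def thetaWord : List Fi24.Gen :=
  [.h, .d, .e, .c, .d, .h, .f, .e, .d, .c, .b, .c, .d, .e, .f, .h, .d, .c, .e, .d, .h]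

/-- a word conjugating `i` to the value of `thetaWord` -/
def thetaConj : List Fi24.Gen :=
  [.h, .d, .e, .c, .d, .h, .f, .e, .d, .c, .c, .b, .d, .c, .h, .d, .i, .h]

/-- the relator word of order three -/
def cubeWord : List Fi24.Gen := (List.replicate 3 (.i :: thetaWord)).flatten

theorem cube_eq_one : ev cubeWord = 1 := by
  have hc : ev thetaWord = ev thetaConj * gen .i * (ev thetaConj)⁻¹ := by
    have key : ∀ u v : List Fi24.Gen, gen .b = ev v * gen .i * (ev v)⁻¹ →
        ev (u ++ .b :: u.reverse) = ev (u ++ v) * gen .i * (ev (u ++ v))⁻¹ := by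
      intro u v hb
      rw [ev_append, ev_cons, ev_append, ev_reverse, mul_inv_rev, hb]
      simp only [mul_assoc]
    exact key [.h, .d, .e, .c, .d, .h, .f, .e, .d, .c] (conjW .b)
      (conjW_spec .b (by decide) (by decide) (by decide))
  have hs : ev thetaWord * ev thetaWord = 1 := by
    have h := ev_reverse thetaWord
    rw [show thetaWord.reverse = thetaWord from rfl] at h
    exact mul_eq_one_iff_eq_inv.2 h
  have hcomm := commute_of_walk (thetaConj.reverse ++ .i :: thetaWord) (by decide +kernel)
    (by decide +kernel)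
  rw [show ((thetaConj.reverse ++ .i :: thetaWord).map gen).prod =
    (ev thetaConj)⁻¹ * (gen .i * ev thetaWord) by
      rw [← ev_reverse, ← ev_cons, ← ev_append]] at hcomm
  have ew : ev cubeWord = (gen .i * ev thetaWord) * (gen .i * ev thetaWord) * (gen .i * ev thetaWord) := by
    simp only [cubeWord, List.replicate_succ, List.replicate_zero, List.flatten_cons, List.flatten_nil,
      List.append_nil, ev_append, ev_cons, mul_assoc]
  rw [ew]
  generalize hy : ev thetaWord = y at hc hs hcomm
  generalize ev thetaConj = v at hc hcomm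
  generalize hx : gen .i = x at hc hcomm
  have hx2 : x * x = 1 := hx ▸ gen_sq .i
  have hyi : y⁻¹ = y := inv_eq_of_mul_eq_one_left hs
  have hxi : x⁻¹ = x := inv_eq_of_mul_eq_one_left hx2
  -- the braid relation of x and y
  have hb : x * y * x = y * x * y := by
    have h := hcomm.eq
    calc x * y * x = v * (v⁻¹ * (x * y) * x) := by group
      _ = v * (x * (v⁻¹ * (x * y))) := by rw [h]
      _ = (v * x * v⁻¹) * (x * y) := by group
      _ = y * x * y := by rw [← hc]; group
  calc x * y * (x * y) * (x * y) = (x * y * x) * (y * x * y) := by simp only [mul_assoc]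
    _ = y * x * (y * y) * x * y := by rw [hb]; simp only [mul_assoc]
    _ = y * (x * x) * y := by rw [hs]; simp only [mul_one, mul_assoc]
    _ = 1 := by rw [hx2, mul_one, hs]

end CfsgLib.Spor.Fi24
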