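import Cfsg.Agent.Lib.Spor.Fi24.Perm
import Cfsg.Agent.Lib.Spor.Fi24.ChkOut
import Cfsg.Agent.Lib.Spor.Fi24.Derived
import Cfsg.Agent.Lib.Spor.Fi24.CloRun0
import Cfsg.Agent.Lib.Spor.Fi24.CloRun1
import Cfsg.Agent.Lib.Spor.Fi24.CloRun2
import Cfsg.Agent.Lib.Spor.Fi24.CloRun3
import Cfsg.Agent.Lib.Spor.Fi24.CloRun4
import Cfsg.Agent.Lib.Spor.Fi24.CloRun5
import Cfsg.Agent.Lib.Spor.Fi24.CloRun6
import Cfsg.Agent.Lib.Spor.Fi24.CloRun7
import Cfsg.Agent.Lib.Spor.Fi24.CloRun8
import Cfsg.Agent.Lib.Spor.Fi24.CloRun9
import Cfsg.Agent.Lib.Spor.Fi24.CloRun10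
import Cfsg.Agent.Lib.Spor.Fi24.CloRun11
import Cfsg.Agent.Lib.Spor.Fi24.CloRun12

/-!
The index of the subgroup generated by all generators but `k` in the presented group Fi24.
-/

namespace CfsgLib.Spor.Fi24

open CfsgLib.BitPerm CfsgLib.PresCert Cfsg.Spor

/-- generator of a number -/
noncomputable def numGen (n : ℕ) : Cfsg.Spor.Fi24 := gen (allGens.getD n .l)

/-- the relator words of the closure -/
def cloKnown : List (List Fi24.Gen) :=
  known ++ [zPrime ++ [.i] ++ zPrime.reverse ++ [.i], cubeWord]

theorem cloKnown_eq_one : ∀ w ∈ cloKnown, ev w = 1 := by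
  intro w hw
  rcases List.mem_append.1 hw with hw | hw
  · exact gen_known w hw
  · simp only [List.mem_cons, List.not_mem_nil, or_false] at hw
    rcases hw with rfl | rfl
    · rw [ev_append, ev_append, ev_append, ev_reverse,
        show ev [Fi24.Gen.i] = gen .i by simp [ev], zPrime_comm.eq, mul_inv_cancel_right, gen_sq]
    · exact cube_eq_one

/-- every relator of the closure is one of the known words or a reverse -/
noncomputable def okCloRels : Bool :=
  Clo.cert.rels.all fun r => (r.all fun n => Nat.blt n 12) &&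
    (cloKnown.contains (r.map fun n => allGens.getD n .l) ||
      cloKnown.contains (r.map fun n => allGens.getD n .l).reverse)

theorem okCloRels_ok : okCloRels = true := by decide +kernel

theorem idx_getD : ∀ n < 12, idx (allGens.getD n .l) = n := by decide +kernel

theorem clo_rel {r : List ℕ} (hr : r ∈ Clo.cert.rels) :
    (∀ n ∈ r, n < 12) ∧ (r.map numGen).prod = 1 := by
  have h := okCloRels_ok
  simp only [okCloRels, List.all_eq_true, Bool.and_eq_true, Nat.blt_eq, Bool.or_eq_true,
    List.contains_iff_mem] at h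
  obtain ⟨h1, h2⟩ := h r hr
  refine ⟨h1, ?_⟩
  have e : r.map numGen = (r.map fun n => allGens.getD n .l).map gen := by
    rw [List.map_map]; rfl
  rw [e]
  rcases h2 with h2 | h2
  · exact cloKnown_eq_one _ h2
  · have := cloKnown_eq_one _ h2
    rwa [ev, prod_reverse_of_invol gen gen_sq, inv_eq_one] at this

theorem outside_ok : ∀ x ∈ List.range 12, sys.okOutside 306936 x = true := by
  intro x hx
  have hx' : x < 12 := List.mem_range.1 hx
  interval_cases x
  exacts [outside0_ok, outside1_ok, outside2_ok, outside3_ok, outside4_ok, outside5_ok, outside6_ok,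
    outside7_ok, outside8_ok, outside9_ok, outside10_ok, outside11_ok]

theorem clo_fixed {r : List ℕ} (hr : r ∈ Clo.cert.rels) (i : ℕ) : sys.ptW r i = i := by
  obtain ⟨h1, h2⟩ := clo_rel hr
  by_cases hi : i < 306936
  · have h3 : ((r.map fun n => allGens.getD n .l).reverse.map gen).prod = 1 := by
      rw [prod_reverse_of_invol gen gen_sq, inv_eq_one, List.map_map]
      exact h2
    have := π_word (r.map fun n => allGens.getD n .l).reverse ⟨i, hi⟩
    rw [h3, map_one, Equiv.Perm.one_apply, List.map_reverse, List.reverse_reverse, List.map_map] at this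
    have e : r.map (idx ∘ fun n => allGens.getD n .l) = r := by
      conv_rhs => rw [← List.map_id r]
      exact List.map_congr_left fun n hn => idx_getD n (h1 n hn)
    rw [e] at this
    exact this.symm
  · exact Sys.ptW_of_outside okNets inside (letters := List.range 12) outside_ok r
      (fun n hn => List.mem_range.2 (h1 n hn)) i (not_lt.1 hi)

/-- the group in which the closure is read -/
noncomputable def cloModel : Cert.Model Clo.cert Cfsg.Spor.Fi24 where
  gen := numGen
  gen_iv x hx := by
    have hg : Clo.cert.g = 12 := by decide +kernel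
    have e : ∀ n < 12, Clo.cert.iv n = n := by decide +kernel
    rw [hg] at hx
    rw [e x hx, hg]
    exact ⟨hx, (gen_inv _).symm⟩
  pt_iv x hx i := by
    have hg : Clo.cert.g = 12 := by decide +kernel
    have e : ∀ n < 12, Clo.cert.iv n = n := by decide +kernel
    rw [hg] at hx
    rw [e x hx]
    have hm : [x, x] ∈ relNums := by
      have : ∀ n < 12, [n, n] ∈ relNums := by decide +kernel
      exact this x hx
    have h := relNums_fixed _ hm i
    exact ⟨h, h⟩
  rels_eq r hr := (clo_rel hr).2
  rels_pt r hr := clo_fixed hr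
  sub := H
  subs_mem x hx := by
    have : ∀ n ∈ Clo.cert.subs, allGens.getD n .l ∈ hGens := by decide +kernel
    exact Subgroup.subset_closure ⟨_, this x hx, rfl⟩
  closure_gen := by
    rw [eq_top_iff, ← top_eq_lettersGroup (edges := Fi24.edges) (extra := Fi24.extra) allGens mem_allGens]
    refine Subgroup.closure_mono ?_
    rintro q ⟨x, hx, rfl⟩
    have hg : Clo.cert.g = 12 := by decide +kernel
    have : ∀ y ∈ allGens, idx y < 12 ∧ allGens.getD (idx y) .l = y := by decide +kernel
    exact ⟨idx x, hg ▸ (this x hx).1, by rw [numGen, (this x hx).2]⟩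

theorem cloLetters : Clo.cert.okLetters = true := by decide +kernel

theorem cloBase : Clo.cert.okBase = true := by
  have hn : Clo.cert.okNets = true := okNets
  rw [Cert.okBase, hn, Bool.true_and]
  decide +kernel

theorem index_H_le : H.index ≤ 306936 ∧ H.FiniteIndex := by
  have hn : Clo.cert.okNets = true := okNets
  have g0 := Cert.good_init cloModel cloBase
  have g1 := Cert.good_of_isSt cloModel hn cloLetters g0 Clo.run0_ok
  have g2 := Cert.good_of_isSt cloModel hn cloLetters g1 Clo.run1_ok
  have g3 := Cert.good_of_isSt cloModel hn cloLetters g2 Clo.run2_ok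
  have g4 := Cert.good_of_isSt cloModel hn cloLetters g3 Clo.run3_ok
  have g5 := Cert.good_of_isSt cloModel hn cloLetters g4 Clo.run4_ok
  have g6 := Cert.good_of_isSt cloModel hn cloLetters g5 Clo.run5_ok
  have g7 := Cert.good_of_isSt cloModel hn cloLetters g6 Clo.run6_ok
  have g8 := Cert.good_of_isSt cloModel hn cloLetters g7 Clo.run7_ok
  have g9 := Cert.good_of_isSt cloModel hn cloLetters g8 Clo.run8_ok
  have g10 := Cert.good_of_isSt cloModel hn cloLetters g9 Clo.run9_ok
  have g11 := Cert.good_of_isSt cloModel hn cloLetters g10 Clo.run10_ok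
  have g12 := Cert.good_of_isSt cloModel hn cloLetters g11 Clo.run11_ok
  obtain ⟨h1, h2, -⟩ := Cert.of_isFull cloModel hn cloLetters g12 Clo.run12_ok
  exact ⟨h1, h2⟩

theorem index_H : H.index = 306936 :=
  le_antisymm index_H_le.1 (index_H_ge index_H_le.2.index_ne_zero)

end CfsgLib.Spor.Fi24
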