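import Cfsg.Agent.Lib.Spor.Fi24.Sys
import Cfsg.Agent.Lib.Spor.Fi24.RelData
import Cfsg.Agent.Lib.BitPerm.Action

/-!
The relation for l.
-/

set_option Elab.async false

namespace CfsgLib.Spor.Fi24

open CfsgLib.BitPerm

theorem relL_0 : sys.okWord relL 0 1 = true := by decide +kernel

theorem relL_1 : sys.okWord relL 1 1 = true := by decide +kernel

theorem relL_2 : sys.okWord relL 2 1 = true := by decide +kernel

theorem relL_3 : sys.okWord relL 3 1 = true := by decide +kernel

theorem relL_4 : sys.okWord relL 4 1 = true := by decide +kernel

theorem relL_5 : sys.okWord relL 5 1 = true := by decide +kernel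

theorem relL_6 : sys.okWord relL 6 1 = true := by decide +kernel

theorem relL_7 : sys.okWord relL 7 1 = true := by decide +kernel

theorem relL_8 : sys.okWord relL 8 1 = true := by decide +kernel

theorem relL_9 : sys.okWord relL 9 1 = true := by decide +kernel

theorem relL_10 : sys.okWord relL 10 1 = true := by decide +kernel

theorem relL_11 : sys.okWord relL 11 1 = true := by decide +kernel

theorem relL_12 : sys.okWord relL 12 1 = true := by decide +kernel

theorem relL_13 : sys.okWord relL 13 1 = true := by decide +kernel

theorem relL_14 : sys.okWord relL 14 1 = true := by decide +kernel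

theorem relL_15 : sys.okWord relL 15 1 = true := by decide +kernel

theorem relL_16 : sys.okWord relL 16 1 = true := by decide +kernel

theorem relL_17 : sys.okWord relL 17 1 = true := by decide +kernel

theorem relL_18 : sys.okWord relL 18 1 = true := by decide +kernel


end CfsgLib.Spor.Fi24
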