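import Cfsg.Agent.Lib.Spor.Fi24.Sys
import Cfsg.Agent.Lib.Spor.Fi24.RelData
import Cfsg.Agent.Lib.BitPerm.Action

/-!
Basic checks on the networks.
-/

set_option Elab.async false

namespace CfsgLib.Spor.Fi24

open CfsgLib.BitPerm

theorem okNets : sys.okNets = true := by decide +kernel

theorem okInside : sys.okInside 306936 0 sys.g = true := by decide +kernel

theorem sq0_ok : sys.okWord [0, 0] 0 19 = true := by decide +kernel

theorem sq1_ok : sys.okWord [1, 1] 0 19 = true := by decide +kernel

theorem sq2_ok : sys.okWord [2, 2] 0 19 = true := by decide +kernel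

theorem sq3_ok : sys.okWord [3, 3] 0 19 = true := by decide +kernel

theorem sq4_ok : sys.okWord [4, 4] 0 19 = true := by decide +kernel

theorem sq5_ok : sys.okWord [5, 5] 0 19 = true := by decide +kernel

theorem sq6_ok : sys.okWord [6, 6] 0 19 = true := by decide +kernel

theorem sq7_ok : sys.okWord [7, 7] 0 19 = true := by decide +kernel

theorem sq8_ok : sys.okWord [8, 8] 0 19 = true := by decide +kernel

theorem sq9_ok : sys.okWord [9, 9] 0 19 = true := by decide +kernel

theorem sq10_ok : sys.okWord [10, 10] 0 19 = true := by decide +kernel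

theorem sq11_ok : sys.okWord [11, 11] 0 19 = true := by decide +kernel


end CfsgLib.Spor.Fi24
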