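import Cfsg.Agent.Lib.Spor.Fi24.Sys
import Cfsg.Agent.Lib.BitPerm.Orbit

/-!
Orbits of the group and of the stabiliser.
-/

set_option Elab.async false

namespace CfsgLib.Spor.Fi24

open CfsgLib.BitPerm

/-- letters other than k -/
def hIdx : List Nat := [0, 2, 3, 4, 5, 6, 7, 8, 9, 10, 11]

/-- steps reaching every point -/
def opsAll : List Nat := [1, 2, 3, 4, 5, 6, 7, 8, 9, 10, 11, 0, 1, 2, 3, 4, 5, 6, 7, 8, 10, 4, 5, 6, 7, 8, 9, 10, 11, 3, 4, 5, 6, 7, 8, 9, 10, 11, 3, 4, 5, 6, 7, 8, 9, 10, 11, 2, 3, 4, 5, 6, 7, 8, 9, 10, 11, 1, 2, 3, 4, 5, 6, 7, 8, 9, 10, 11, 0, 2, 3, 4, 2, 3]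

/-- steps reaching the first orbit -/
def opsA : List Nat := [3, 4, 5, 6, 7, 8, 9, 10, 11, 2, 3, 4, 5, 6, 7, 8, 10, 4, 5, 6, 7, 8, 9, 10, 11, 3, 4, 5, 6, 7, 8, 9, 10, 11, 3, 4, 5, 6, 7, 8, 9, 10, 11, 2, 3, 4, 5, 6, 7, 8, 9, 10, 4, 5, 3, 4, 2, 3]

/-- steps reaching the second orbit -/
def opsB : List Nat := [2, 3, 4, 5, 6, 7, 8, 9, 10, 11, 5, 6, 7, 8, 10, 4, 5, 6, 7, 8, 9, 10, 11, 3, 4, 5, 6, 7, 8, 9, 10, 11, 2, 3, 4, 5, 6, 7, 8, 9, 10, 11, 2, 3, 4, 5, 6, 7, 8, 9, 10, 11, 2, 3, 4, 5, 6, 7, 8, 9, 10, 11, 2, 3, 4, 5, 2]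

theorem opsAll_ok : sys.okOrbit opsAll 0 0 306936 = true := by decide +kernel

theorem opsA_ok : sys.okOrbit opsA 1 1 31672 = true := by decide +kernel

theorem opsB_ok : sys.okOrbit opsB 31672 31672 306936 = true := by decide +kernel

theorem zero_closed : sys.okClosed hIdx 0 1 = true := by decide +kernel

theorem orbA_closed : sys.okClosed hIdx 1 31672 = true := by decide +kernel

theorem orbB_closed : sys.okClosed hIdx 31672 306936 = true := by decide +kernel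

end CfsgLib.Spor.Fi24
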