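import Cfsg.Agent.Lib.Spor.Fi24.Sys
import Cfsg.Agent.Lib.Spor.Fi24.RelData
import Cfsg.Agent.Lib.BitPerm.Action

/-!
Relators of pairs of generators.
-/

set_option Elab.async false

namespace CfsgLib.Spor.Fi24

open CfsgLib.BitPerm

theorem pairA0_ok : sys.okWord (relPairsA.getD 0 []) 0 19 = true := by decide +kernel

theorem pairA1_ok : sys.okWord (relPairsA.getD 1 []) 0 19 = true := by decide +kernel

theorem pairA2_ok : sys.okWord (relPairsA.getD 2 []) 0 19 = true := by decide +kernel

theorem pairA3_ok : sys.okWord (relPairsA.getD 3 []) 0 19 = true := by decide +kernel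

theorem pairA4_ok : sys.okWord (relPairsA.getD 4 []) 0 19 = true := by decide +kernel

theorem pairA5_ok : sys.okWord (relPairsA.getD 5 []) 0 19 = true := by decide +kernel

theorem pairA6_ok : sys.okWord (relPairsA.getD 6 []) 0 19 = true := by decide +kernel

theorem pairA7_ok : sys.okWord (relPairsA.getD 7 []) 0 19 = true := by decide +kernel

theorem pairA8_ok : sys.okWord (relPairsA.getD 8 []) 0 19 = true := by decide +kernel

theorem pairA9_ok : sys.okWord (relPairsA.getD 9 []) 0 19 = true := by decide +kernel

theorem pairA10_ok : sys.okWord (relPairsA.getD 10 []) 0 19 = true := by decide +kernel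

theorem pairA11_ok : sys.okWord (relPairsA.getD 11 []) 0 19 = true := by decide +kernel

theorem pairA12_ok : sys.okWord (relPairsA.getD 12 []) 0 19 = true := by decide +kernel

theorem pairA13_ok : sys.okWord (relPairsA.getD 13 []) 0 19 = true := by decide +kernel

theorem pairA14_ok : sys.okWord (relPairsA.getD 14 []) 0 19 = true := by decide +kernel

theorem pairA15_ok : sys.okWord (relPairsA.getD 15 []) 0 19 = true := by decide +kernel

theorem pairA16_ok : sys.okWord (relPairsA.getD 16 []) 0 19 = true := by decide +kernel

theorem pairA17_ok : sys.okWord (relPairsA.getD 17 []) 0 19 = true := by decide +kernel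

theorem pairA18_ok : sys.okWord (relPairsA.getD 18 []) 0 19 = true := by decide +kernel

theorem pairA19_ok : sys.okWord (relPairsA.getD 19 []) 0 19 = true := by decide +kernel

theorem pairA20_ok : sys.okWord (relPairsA.getD 20 []) 0 19 = true := by decide +kernel

theorem pairA21_ok : sys.okWord (relPairsA.getD 21 []) 0 19 = true := by decide +kernel


end CfsgLib.Spor.Fi24
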