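import Cfsg.Agent.Lib.Spor.Fi24.Sys
import Cfsg.Agent.Lib.Spor.Fi24.RelData
import Cfsg.Agent.Lib.BitPerm.Action

/-!
Relators of pairs of generators.
-/

set_option Elab.async false

namespace CfsgLib.Spor.Fi24

open CfsgLib.BitPerm

theorem pairB0_ok : sys.okWord (relPairsB.getD 0 []) 0 19 = true := by decide +kernel

theorem pairB1_ok : sys.okWord (relPairsB.getD 1 []) 0 19 = true := by decide +kernel

theorem pairB2_ok : sys.okWord (relPairsB.getD 2 []) 0 19 = true := by decide +kernel

theorem pairB3_ok : sys.okWord (relPairsB.getD 3 []) 0 19 = true := by decide +kernel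

theorem pairB4_ok : sys.okWord (relPairsB.getD 4 []) 0 19 = true := by decide +kernel

theorem pairB5_ok : sys.okWord (relPairsB.getD 5 []) 0 19 = true := by decide +kernel

theorem pairB6_ok : sys.okWord (relPairsB.getD 6 []) 0 19 = true := by decide +kernel

theorem pairB7_ok : sys.okWord (relPairsB.getD 7 []) 0 19 = true := by decide +kernel

theorem pairB8_ok : sys.okWord (relPairsB.getD 8 []) 0 19 = true := by decide +kernel

theorem pairB9_ok : sys.okWord (relPairsB.getD 9 []) 0 19 = true := by decide +kernel

theorem pairB10_ok : sys.okWord (relPairsB.getD 10 []) 0 19 = true := by decide +kernel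

theorem pairB11_ok : sys.okWord (relPairsB.getD 11 []) 0 19 = true := by decide +kernel

theorem pairB12_ok : sys.okWord (relPairsB.getD 12 []) 0 19 = true := by decide +kernel

theorem pairB13_ok : sys.okWord (relPairsB.getD 13 []) 0 19 = true := by decide +kernel

theorem pairB14_ok : sys.okWord (relPairsB.getD 14 []) 0 19 = true := by decide +kernel

theorem pairB15_ok : sys.okWord (relPairsB.getD 15 []) 0 19 = true := by decide +kernel

theorem pairB16_ok : sys.okWord (relPairsB.getD 16 []) 0 19 = true := by decide +kernel

theorem pairB17_ok : sys.okWord (relPairsB.getD 17 []) 0 19 = true := by decide +kernel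

theorem pairB18_ok : sys.okWord (relPairsB.getD 18 []) 0 19 = true := by decide +kernel

theorem pairB19_ok : sys.okWord (relPairsB.getD 19 []) 0 19 = true := by decide +kernel

theorem pairB20_ok : sys.okWord (relPairsB.getD 20 []) 0 19 = true := by decide +kernel

theorem pairB21_ok : sys.okWord (relPairsB.getD 21 []) 0 19 = true := by decide +kernel


end CfsgLib.Spor.Fi24
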