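import Cfsg.Agent.Lib.Spor.Fi24.Sys
import Cfsg.Agent.Lib.Spor.Fi24.RelData
import Cfsg.Agent.Lib.BitPerm.Action

/-!
Relators of pairs of generators.
-/

set_option Elab.async false

namespace CfsgLib.Spor.Fi24

open CfsgLib.BitPerm

theorem pairC0_ok : sys.okWord (relPairsC.getD 0 []) 0 19 = true := by decide +kernel

theorem pairC1_ok : sys.okWord (relPairsC.getD 1 []) 0 19 = true := by decide +kernel

theorem pairC2_ok : sys.okWord (relPairsC.getD 2 []) 0 19 = true := by decide +kernel

theorem pairC3_ok : sys.okWord (relPairsC.getD 3 []) 0 19 = true := by decide +kernel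

theorem pairC4_ok : sys.okWord (relPairsC.getD 4 []) 0 19 = true := by decide +kernel

theorem pairC5_ok : sys.okWord (relPairsC.getD 5 []) 0 19 = true := by decide +kernel

theorem pairC6_ok : sys.okWord (relPairsC.getD 6 []) 0 19 = true := by decide +kernel

theorem pairC7_ok : sys.okWord (relPairsC.getD 7 []) 0 19 = true := by decide +kernel

theorem pairC8_ok : sys.okWord (relPairsC.getD 8 []) 0 19 = true := by decide +kernel

theorem pairC9_ok : sys.okWord (relPairsC.getD 9 []) 0 19 = true := by decide +kernel

theorem pairC10_ok : sys.okWord (relPairsC.getD 10 []) 0 19 = true := by decide +kernel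

theorem pairC11_ok : sys.okWord (relPairsC.getD 11 []) 0 19 = true := by decide +kernel

theorem pairC12_ok : sys.okWord (relPairsC.getD 12 []) 0 19 = true := by decide +kernel

theorem pairC13_ok : sys.okWord (relPairsC.getD 13 []) 0 19 = true := by decide +kernel

theorem pairC14_ok : sys.okWord (relPairsC.getD 14 []) 0 19 = true := by decide +kernel

theorem pairC15_ok : sys.okWord (relPairsC.getD 15 []) 0 19 = true := by decide +kernel

theorem pairC16_ok : sys.okWord (relPairsC.getD 16 []) 0 19 = true := by decide +kernel

theorem pairC17_ok : sys.okWord (relPairsC.getD 17 []) 0 19 = true := by decide +kernel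

theorem pairC18_ok : sys.okWord (relPairsC.getD 18 []) 0 19 = true := by decide +kernel

theorem pairC19_ok : sys.okWord (relPairsC.getD 19 []) 0 19 = true := by decide +kernel

theorem pairC20_ok : sys.okWord (relPairsC.getD 20 []) 0 19 = true := by decide +kernel

theorem pairC21_ok : sys.okWord (relPairsC.getD 21 []) 0 19 = true := by decide +kernel


end CfsgLib.Spor.Fi24
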