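import Cfsg.Agent.Lib.Spor.Fi24.Sys
import Cfsg.Agent.Lib.Spor.Fi24.RelData
import Cfsg.Agent.Lib.BitPerm.Action

/-!
The relation killing the centre, first planes.
-/

set_option Elab.async false

namespace CfsgLib.Spor.Fi24

open CfsgLib.BitPerm

theorem relZ_0 : sys.okWord relZ 0 1 = true := by decide +kernel

theorem relZ_1 : sys.okWord relZ 1 1 = true := by decide +kernel

theorem relZ_2 : sys.okWord relZ 2 1 = true := by decide +kernel

theorem relZ_3 : sys.okWord relZ 3 1 = true := by decide +kernel

theorem relZ_4 : sys.okWord relZ 4 1 = true := by decide +kernel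

theorem relZ_5 : sys.okWord relZ 5 1 = true := by decide +kernel

theorem relZ_6 : sys.okWord relZ 6 1 = true := by decide +kernel

theorem relZ_7 : sys.okWord relZ 7 1 = true := by decide +kernel

theorem relZ_8 : sys.okWord relZ 8 1 = true := by decide +kernel

theorem relZ_9 : sys.okWord relZ 9 1 = true := by decide +kernel


end CfsgLib.Spor.Fi24
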