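import Cfsg.Agent.Lib.Spor.Fi24.Sys
import Cfsg.Agent.Lib.Spor.Fi24.RelData
import Cfsg.Agent.Lib.BitPerm.Action

/-!
The relation killing the centre, last planes.
-/

set_option Elab.async false

namespace CfsgLib.Spor.Fi24

open CfsgLib.BitPerm

theorem relZ_10 : sys.okWord relZ 10 1 = true := by decide +kernel

theorem relZ_11 : sys.okWord relZ 11 1 = true := by decide +kernel

theorem relZ_12 : sys.okWord relZ 12 1 = true := by decide +kernel

theorem relZ_13 : sys.okWord relZ 13 1 = true := by decide +kernel

theorem relZ_14 : sys.okWord relZ 14 1 = true := by decide +kernel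

theorem relZ_15 : sys.okWord relZ 15 1 = true := by decide +kernel

theorem relZ_16 : sys.okWord relZ 16 1 = true := by decide +kernel

theorem relZ_17 : sys.okWord relZ 17 1 = true := by decide +kernel

theorem relZ_18 : sys.okWord relZ 18 1 = true := by decide +kernel


end CfsgLib.Spor.Fi24
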