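import Cfsg.Agent.Lib.Spor.Fi24.Words
import Cfsg.Agent.Lib.Spor.Fi24.ChkNets
import Cfsg.Agent.Lib.Spor.Fi24.ChkPairsA
import Cfsg.Agent.Lib.Spor.Fi24.ChkPairsB
import Cfsg.Agent.Lib.Spor.Fi24.ChkPairsC
import Cfsg.Agent.Lib.Spor.Fi24.ChkL
import Cfsg.Agent.Lib.Spor.Fi24.ChkZ0
import Cfsg.Agent.Lib.Spor.Fi24.ChkZ1
import Cfsg.Agent.Lib.Spor.Fi24.ChkOrb

/-!
The presented Fischer group Fi24 acts transitively on 306936 points, the subgroup without `k`
fixing the point `0` and having two further orbits.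
-/

namespace CfsgLib.Spor.Fi24

open CfsgLib.BitPerm CfsgLib.PresCert Cfsg.Spor

theorem inside : Sys.Inside sys 306936 := Sys.inside_of_okInside okNets okInside

theorem sys_k : sys.k = 19 := rfl

theorem fixed_of_ok {w : List Nat} (h : sys.okWord w 0 19 = true) (i : Nat) : sys.ptW w i = i :=
  Sys.ptW_eq_self okNets (by simpa [sys_k] using Sys.planesFixed_of_okWord h) i

theorem fixed_of_planes {w : List Nat} (h : ∀ j < 19, sys.okWord w j 1 = true) (i : Nat) :
    sys.ptW w i = i :=
  Sys.ptW_eq_self okNets (fun j _ h2 =>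
    Sys.planesFixed_of_okWord (h j (by rwa [sys_k] at h2)) j le_rfl (Nat.lt_succ_self j)) i

/-- all numeric relators -/
def relNums : List (List Nat) := relSq ++ (relPairsA ++ (relPairsB ++ (relPairsC ++ [relL, relZ])))

theorem allFixed_getD {ns : List (List Nat)} (h : ∀ n < ns.length, ∀ i, sys.ptW (ns.getD n []) i = i) :
    Sys.AllFixed sys ns := by
  intro w hw
  obtain ⟨n, hn, rfl⟩ := List.getElem_of_mem hw
  simpa [List.getD_eq_getElem?_getD, List.getElem?_eq_getElem hn] using h n hn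

theorem relNums_fixed : Sys.AllFixed sys relNums := by
  refine Sys.AllFixed.append (allFixed_getD fun n hn => ?_)
    (Sys.AllFixed.append (allFixed_getD fun n hn => ?_) (Sys.AllFixed.append
      (allFixed_getD fun n hn => ?_) (Sys.AllFixed.append (allFixed_getD fun n hn => ?_)
        (Sys.AllFixed.cons ?_ (Sys.AllFixed.cons ?_ Sys.AllFixed.nil)))))
  · have hn' : n < 12 := hn
    interval_cases n <;> refine fun i => fixed_of_ok ?_ i
    exacts [sq0_ok, sq1_ok, sq2_ok, sq3_ok, sq4_ok, sq5_ok, sq6_ok, sq7_ok, sq8_ok, sq9_ok,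
      sq10_ok, sq11_ok]
  · have hn' : n < 22 := hn
    interval_cases n <;> refine fun i => fixed_of_ok ?_ i
    exacts [pairA0_ok, pairA1_ok, pairA2_ok, pairA3_ok, pairA4_ok, pairA5_ok, pairA6_ok, pairA7_ok,
      pairA8_ok, pairA9_ok, pairA10_ok, pairA11_ok, pairA12_ok, pairA13_ok, pairA14_ok, pairA15_ok,
      pairA16_ok, pairA17_ok, pairA18_ok, pairA19_ok, pairA20_ok, pairA21_ok]
  · have hn' : n < 22 := hn
    interval_cases n <;> refine fun i => fixed_of_ok ?_ i
    exacts [pairB0_ok, pairB1_ok, pairB2_ok, pairB3_ok, pairB4_ok, pairB5_ok, pairB6_ok, pairB7_ok,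
      pairB8_ok, pairB9_ok, pairB10_ok, pairB11_ok, pairB12_ok, pairB13_ok, pairB14_ok, pairB15_ok,
      pairB16_ok, pairB17_ok, pairB18_ok, pairB19_ok, pairB20_ok, pairB21_ok]
  · have hn' : n < 22 := hn
    interval_cases n <;> refine fun i => fixed_of_ok ?_ i
    exacts [pairC0_ok, pairC1_ok, pairC2_ok, pairC3_ok, pairC4_ok, pairC5_ok, pairC6_ok, pairC7_ok,
      pairC8_ok, pairC9_ok, pairC10_ok, pairC11_ok, pairC12_ok, pairC13_ok, pairC14_ok, pairC15_ok,
      pairC16_ok, pairC17_ok, pairC18_ok, pairC19_ok, pairC20_ok, pairC21_ok]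
  · refine fixed_of_planes fun j hj => ?_
    interval_cases j
    exacts [relL_0, relL_1, relL_2, relL_3, relL_4, relL_5, relL_6, relL_7, relL_8, relL_9, relL_10,
      relL_11, relL_12, relL_13, relL_14, relL_15, relL_16, relL_17, relL_18]
  · refine fixed_of_planes fun j hj => ?_
    interval_cases j
    exacts [relZ_0, relZ_1, relZ_2, relZ_3, relZ_4, relZ_5, relZ_6, relZ_7, relZ_8, relZ_9, relZ_10,
      relZ_11, relZ_12, relZ_13, relZ_14, relZ_15, relZ_16, relZ_17, relZ_18]

theorem sq_mem : ∀ x : Fi24.Gen, [idx x, idx x] ∈ relNums := by intro x; cases x <;> decide +kernel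

theorem rels_covered : Sys.okCovered idx relNums known = true := by decide +kernel

/-- the representation on 306936 points -/
noncomputable def π : Cfsg.Spor.Fi24 →* Equiv.Perm (Fin 306936) :=
  Sys.rep okNets inside idx wordsFor relNums_fixed sq_mem rels_covered

/-- the value of `π` on a word is the walk along the reversed word -/
theorem π_word (w : List Fi24.Gen) (i : Fin 306936) :
    ((π ((w.map gen).prod) i : Fin 306936) : ℕ) = sys.ptW (w.map idx).reverse i :=
  Sys.rep_word okNets inside wordsFor relNums_fixed sq_mem rels_covered w i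

theorem π_gen (x : Fi24.Gen) (i : Fin 306936) :
    ((π (gen x) i : Fin 306936) : ℕ) = sys.pt (idx x) i := by
  simpa [Sys.ptW] using π_word [x] i

/-- the base point -/
def i₀ : Fin 306936 := ⟨0, by norm_num⟩

theorem transitive (i : Fin 306936) : ∃ q, π q i₀ = i := by
  obtain ⟨w, hw, e⟩ := Sys.orbit_reach okNets (Nat.zero_le _) opsAll_ok (Nat.zero_le _) i.2
  obtain ⟨u, hu⟩ : ∃ u : List Fi24.Gen, u.map idx = w := by
    have hall : ∀ x ∈ w, ∃ y : Fi24.Gen, idx y = x := by
      intro x hx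
      have : ∀ x ∈ opsAll, ∃ y ∈ allGens, idx y = x := by decide +kernel
      obtain ⟨y, -, hy⟩ := this x (hw x hx)
      exact ⟨y, hy⟩
    clear hw e
    induction w with
    | nil => exact ⟨[], rfl⟩
    | cons x w ih =>
      obtain ⟨y, rfl⟩ := hall x (List.mem_cons_self ..)
      obtain ⟨u, rfl⟩ := ih fun z hz => hall z (List.mem_cons_of_mem _ hz)
      exact ⟨y :: u, rfl⟩
  refine ⟨(u.map gen).prod, ?_⟩
  have h : π ((u.reverse.map gen).prod) i = i₀ := Fin.ext (by
    rw [π_word, List.map_reverse, List.reverse_reverse, hu, e]; rfl)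
  rw [prod_reverse_of_invol gen gen_sq, map_inv, Equiv.Perm.inv_eq_iff_eq] at h
  exact h.symm

theorem hIdx_eq : hGens.map idx = hIdx := by decide +kernel

theorem gen_fix {x : Fi24.Gen} (hx : x ∈ hGens) : π (gen x) i₀ = i₀ := by
  refine Fin.ext ?_
  rw [π_gen]
  have := (Sys.closed_pt okNets (Nat.zero_le 1) zero_closed
    (hIdx_eq ▸ List.mem_map_of_mem hx : idx x ∈ hIdx) 0).2 ⟨le_rfl, Nat.one_pos⟩
  change sys.pt (idx x) 0 = 0
  omega

theorem H_fix : ∀ h ∈ H, π h i₀ = i₀ := by
  intro h hh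
  induction hh using Subgroup.closure_induction with
  | mem q hq =>
    obtain ⟨x, hx, rfl⟩ := hq
    exact gen_fix hx
  | one => simp
  | mul a b _ _ ha hb => rw [map_mul, Equiv.Perm.mul_apply, hb, ha]
  | inv a _ ha => rw [map_inv, Equiv.Perm.inv_eq_iff_eq, ha]

theorem index_H_ge : H.index ≠ 0 → 306936 ≤ H.index := by
  intro h0
  haveI : H.FiniteIndex := ⟨h0⟩
  let f : Cfsg.Spor.Fi24 ⧸ H → Fin 306936 := fun q =>
    Quotient.liftOn' q (fun g => π g i₀) (fun a b hab => by
      rw [QuotientGroup.leftRel_apply] at hab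
      have := H_fix _ hab
      rw [map_mul, map_inv, Equiv.Perm.mul_apply, Equiv.Perm.inv_eq_iff_eq] at this
      exact this.symm)
  have hf : Function.Surjective f := fun i => by
    obtain ⟨g, hg⟩ := transitive i
    exact ⟨QuotientGroup.mk g, hg⟩
  have := Nat.card_le_card_of_surjective f hf
  rwa [Nat.card_fin, ← Subgroup.index_eq_card] at this

end CfsgLib.Spor.Fi24
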