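import Cfsg.Agent.Lib.PresCert.Presented
import Cfsg.Prelude.Def_Spor_Fi24

/-!
Relator words of the presented Fischer group Fi24 and letters used for its subgroups.
-/

namespace CfsgLib.Spor.Fi24

open CfsgLib.PresCert Cfsg.Spor

/-- the word of the ninth power of the Coxeter element of the seven nodes -/
def sevenNine : List Fi24.Gen := (List.replicate 9 [.a, .b, .c, .d, .e, .f, .h]).flatten

/-- the word of the long relation -/
def centreWord : List Fi24.Gen :=
  (List.replicate 17 [.d, .c, .b, .a, .k, .l, .d, .e, .f, .g, .j, .d, .h, .i]).flatten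

/-- the further relators as words -/
def extraW : List (List Fi24.Gen) := [.l :: sevenNine.reverse, centreWord]

/-- numbering of the generators -/
def idx : Fi24.Gen → ℕ
  | .l => 0 | .k => 1 | .a => 2 | .b => 3 | .c => 4 | .d => 5 | .e => 6 | .f => 7 | .g => 8
  | .j => 9 | .h => 10 | .i => 11

/-- all letters -/
def allGens : List Fi24.Gen := [.l, .k, .a, .b, .c, .d, .e, .f, .g, .j, .h, .i]

/-- the letters other than `k` -/
def hGens : List Fi24.Gen := [.l, .a, .b, .c, .d, .e, .f, .g, .j, .h, .i]

theorem mem_allGens : ∀ x : Fi24.Gen, x ∈ allGens := by intro x; cases x <;> simp [allGens]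

theorem mem_nodes : ∀ x : Fi24.Gen, x ∈ coxNodes Fi24.edges := by
  intro x; cases x <;> decide

theorem prod_replicate {Q : Type*} [Monoid Q] (f : Fi24.Gen → Q) (w : List Fi24.Gen) (n : ℕ) :
    ((List.replicate n w).flatten.map f).prod = (w.map f).prod ^ n := by
  induction n with
  | zero => simp
  | succ n ih => simp [List.replicate_succ, pow_succ', ih]

theorem wordsFor : WordsFor Fi24.extra extraW := by
  intro Q _ f hf
  simp only [extraW, Fi24.extra, List.map_cons, List.map_nil, List.prod_cons,
    prod_reverse_of_invol f hf, sevenNine, centreWord, prod_replicate, map_mul, map_inv, map_pow,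
    Fi24.a, Fi24.b, Fi24.c, Fi24.d, Fi24.e, Fi24.f, Fi24.g, Fi24.h, Fi24.i, Fi24.j, Fi24.k, Fi24.l,
    FreeGroup.lift_apply_of, List.prod_nil, mul_one, mul_assoc]

/-- all relator words -/
def known : List (List Fi24.Gen) := knownWords Fi24.edges extraW

/-- a generator of the presented group -/
abbrev gen : Fi24.Gen → Cfsg.Spor.Fi24 := pgen Fi24.edges Fi24.extra

theorem gen_known : ∀ w ∈ known, (w.map gen).prod = 1 := pgen_known mem_nodes wordsFor

theorem gen_sq (x : Fi24.Gen) : gen x * gen x = 1 := pgen_sq mem_nodes x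

/-- the subgroup generated by the letters other than `k` -/
noncomputable def H : Subgroup Cfsg.Spor.Fi24 := lettersGroup hGens gen

theorem H_eq_map : H = (Subgroup.closure ({Fi24.a, Fi24.b, Fi24.c, Fi24.d, Fi24.e, Fi24.f, Fi24.g,
      Fi24.h, Fi24.i, Fi24.j, Fi24.l} : Set (FreeGroup Fi24.Gen))).map
    (PresentedGroup.mk (coxRelators Fi24.edges ∪ {r | r ∈ Fi24.extra})) := by
  rw [map_closure_eq (hGens.map fun x => [x]) _ ?_, wordsGroup_singletons]
  · rfl
  · ext r
    simp only [Set.mem_insert_iff, Set.mem_singleton_iff, Set.mem_setOf_eq]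
    simp [hGens, Fi24.a, Fi24.b, Fi24.c, Fi24.d, Fi24.e, Fi24.f, Fi24.g, Fi24.h, Fi24.i, Fi24.j,
      Fi24.l, @eq_comm _ r]
    tauto

end CfsgLib.Spor.Fi24
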