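import Cfsg.Agent.Lib.Spor.Fi24.CentICert
import Cfsg.Agent.Lib.Spor.Fi24.Words
import Cfsg.Agent.Lib.PresCert.Walk

/-!
Elements commuting with the generator `i` in the presented group Fi24.

The cosets of the subgroup generated by some elements commuting with `i`, inside the subgroup
generated by `a, …, i, l`, are enumerated by a certificate; a word whose path returns to the first
coset therefore commutes with `i`.
-/

namespace CfsgLib.Spor.Fi24

open CfsgLib.PresCert Cfsg.Spor

/-- a conjugate of `c` commuting with `i` -/
def orthWord : List Fi24.Gen := [.h, .i, .d, .h, .e, .d, .c, .d, .e, .h, .d, .i, .h]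

/-- the letters: generators, and the element of `orthWord` -/
noncomputable def oGen : Option Fi24.Gen → Cfsg.Spor.Fi24
  | some x => gen x
  | none => (orthWord.map gen).prod

/-- letters of the certificate -/
def oSel : List (Option Fi24.Gen) :=
  [some .a, some .b, some .c, some .d, some .e, some .f, some .g, some .h, some .i, some .l, none]

/-- relator words in these letters -/
def oKnown : List (List (Option Fi24.Gen)) :=
  (known.map fun w => w.map some) ++ [none :: orthWord.map some, [none, none]]

/-- subgroup letters -/
def oSubs : List (List (Option Fi24.Gen)) :=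
  [[some .i], [some .a], [some .b], [some .c], [some .d], [some .e], [some .f], [some .g],
    [some .l], [none]]

theorem prod_map_some (w : List Fi24.Gen) :
    ((w.map some).map oGen).prod = (w.map gen).prod := by
  rw [List.map_map]
  rfl

theorem oGen_sq : ∀ x, oGen x * oGen x = 1
  | some x => gen_sq x
  | none => by
    have h := prod_reverse_of_invol gen gen_sq orthWord
    rw [show orthWord.reverse = orthWord from rfl] at h
    exact mul_eq_one_iff_eq_inv.2 h

theorem oGen_known : ∀ w ∈ oKnown, (w.map oGen).prod = 1 := by
  intro w hw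
  rcases List.mem_append.1 hw with hw | hw
  · obtain ⟨v, hv, rfl⟩ := List.mem_map.1 hw
    rw [prod_map_some]
    exact gen_known v hv
  · simp only [List.mem_cons, List.not_mem_nil, or_false] at hw
    rcases hw with rfl | rfl
    · rw [List.map_cons, List.prod_cons, prod_map_some]
      exact oGen_sq none
    · simpa using oGen_sq none

theorem braid {x y : Fi24.Gen} (h : coxLabel Fi24.edges x y = 3) :
    gen x * gen y * gen x = gen y * gen x * gen y := by
  have e := pgen_cox (extra := Fi24.extra) (mem_nodes x) (mem_nodes y)
  rw [h] at e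
  have hi : ∀ z, (gen z)⁻¹ = gen z := fun z => inv_eq_of_mul_eq_one_left (gen_sq z)
  have e' : gen x * gen y * gen x * (gen y * gen x * gen y) = 1 := by
    rw [← e]
    simp only [pow_succ, pow_zero, one_mul, mul_assoc]
  rw [eq_inv_of_mul_eq_one_left e']
  simp only [mul_inv_rev, hi, mul_assoc]

theorem comm_of_label {x y : Fi24.Gen} (h : coxLabel Fi24.edges x y = 2) :
    Commute (gen x) (gen y) := by
  have e := pgen_cox (extra := Fi24.extra) (mem_nodes x) (mem_nodes y)
  rw [h, pow_two] at e
  have hi : ∀ z, (gen z)⁻¹ = gen z := fun z => inv_eq_of_mul_eq_one_left (gen_sq z)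
  rw [Commute, SemiconjBy, eq_inv_of_mul_eq_one_left e]
  simp only [mul_inv_rev, hi]

theorem orth_comm : Commute (oGen none) (gen .i) := by
  have sq : ∀ x, gen x * gen x = 1 := gen_sq
  have sq' : ∀ (x : Fi24.Gen) (r : Cfsg.Spor.Fi24), gen x * (gen x * r) = r := fun x r => by
    rw [← mul_assoc, sq, one_mul]
  have bihi : gen .h * gen .i * gen .h = gen .i * gen .h * gen .i := braid (by decide)
  have bdhd : gen .d * gen .h * gen .d = gen .h * gen .d * gen .h := braid (by decide)
  have bede : gen .e * gen .d * gen .e = gen .d * gen .e * gen .d := braid (by decide)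
  have cce : Commute (gen .c) (gen .e) := comm_of_label (by decide)
  obtain ⟨u, hu⟩ : ∃ u, u = gen .h * gen .i * gen .d * gen .h * gen .e * gen .d := ⟨_, rfl⟩
  have r0 : oGen none = u * gen .c * (gen .d * gen .e * gen .h * gen .d * gen .i * gen .h) := by
    rw [hu]; simp [oGen, orthWord, mul_assoc]
  have inv : gen .d * gen .e * gen .h * gen .d * gen .i * gen .h = u⁻¹ := by
    refine eq_inv_of_mul_eq_one_left ?_
    rw [hu]; simp only [mul_assoc, sq', sq]
  have move : gen .i * u = u * gen .e := by
    have did : Commute (gen .d) (gen .i) := comm_of_label (by decide)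
    have che : Commute (gen .h) (gen .e) := comm_of_label (by decide)
    calc gen .i * u = (gen .i * gen .h * gen .i) * gen .d * gen .h * gen .e * gen .d := by
          rw [hu]; simp only [mul_assoc]
      _ = gen .h * gen .i * (gen .h * gen .d * gen .h) * gen .e * gen .d := by
          rw [← bihi]; simp only [mul_assoc]
      _ = gen .h * gen .i * gen .d * gen .h * (gen .d * gen .e * gen .d) := by
          rw [← bdhd]; simp only [mul_assoc]
      _ = u * gen .e := by
          rw [← bede, hu]; simp only [mul_assoc]
  rw [r0, inv]
  show u * gen .c * u⁻¹ * gen .i = gen .i * (u * gen .c * u⁻¹)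
  have move' : u⁻¹ * gen .i = gen .e * u⁻¹ := by
    rw [eq_mul_inv_iff_mul_eq, mul_assoc, move, inv_mul_cancel_left]
  rw [mul_assoc (u * gen .c), move', ← mul_assoc (gen .i), ← mul_assoc (gen .i), move,
    ← mul_assoc, mul_assoc u, cce.eq, ← mul_assoc]

theorem oSubs_le : wordsGroup oSubs oGen ≤ Subgroup.centralizer {gen .i} := by
  rw [wordsGroup, Subgroup.closure_le]
  rintro _ ⟨w, hw, rfl⟩
  rw [SetLike.mem_coe, Subgroup.mem_centralizer_singleton_iff]
  simp only [oSubs, List.mem_cons, List.not_mem_nil, or_false] at hw
  have key : ∀ x, coxLabel Fi24.edges x .i = 2 → Commute (gen x) (gen .i) := fun x h => comm_of_label h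
  rcases hw with rfl | rfl | rfl | rfl | rfl | rfl | rfl | rfl | rfl | rfl <;>
    simp only [List.map_cons, List.map_nil, List.prod_cons, List.prod_nil, mul_one]
  · exact rfl
  all_goals first
    | exact orth_comm.eq
    | exact (key _ (by decide)).eq

/-- letter numbers of the certificate -/
def oIdx : Fi24.Gen → ℕ
  | .a => 0 | .b => 1 | .c => 2 | .d => 3 | .e => 4 | .f => 5 | .g => 6 | .h => 7 | .i => 8
  | .l => 9 | .j => 11 | .k => 11

/-- If the path of a word in `a, …, i, l` returns to the first coset, its value commutes with `i`. -/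
theorem commute_of_walk (w : List Fi24.Gen) (hw : ∀ x ∈ w, oIdx x < 11)
    (h : CentI.cert.walk 524288 (w.map oIdx) 0 = some 0) :
    Commute (w.map gen).prod (gen .i) := by
  have hg : CentI.cert.g = 11 := by decide +kernel
  have := word_mem CentI.valid oGen_sq oGen_known (sel := oSel) (subs := oSubs) (d := none)
    (by decide +kernel) (by decide +kernel) (w.map oIdx)
    (fun n hn => by obtain ⟨x, hx, rfl⟩ := List.mem_map.1 hn; rw [hg]; exact hw x hx) 524288 h
  have e : ((w.map oIdx).map fun x => oSel.getD x none) = w.map some := by
    rw [List.map_map]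
    refine List.map_congr_left fun x hx => ?_
    have := hw x hx
    cases x <;> first | rfl | simp [oIdx] at this
  rw [e, prod_map_some] at this
  exact (Subgroup.mem_centralizer_singleton_iff.1 (oSubs_le this))

end CfsgLib.Spor.Fi24
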