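import Cfsg.Agent.Lib.Spor.Fi24.CloRun8
import Cfsg.Agent.Lib.Spor.Fi24.CloCert
import Cfsg.Agent.Lib.Spor.Fi24.CloState9
import Cfsg.Agent.Lib.Spor.Fi24.CloState10

/-!
Steps of the closure.
-/

set_option Elab.async false

namespace CfsgLib.Spor.Fi24.Clo

open CfsgLib.BitPerm

/-- steps -/
def ops10 : List Op :=
  [.rot 42 0, .rot 44 0, .rot 40 0, .rot 41 0, .rot 43 0, .rot 22 0, .rot 30 0, .rot 31 0, .rot 32 0, .rot 36 0,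
   .rot 33 0, .rot 21 0, .rot 37 0, .rot 34 0, .rot 35 0, .rot 31 1, .rot 23 0, .rot 21 0, .rot 24 0, .rot 22 0,
   .rot 23 0, .rot 28 0, .rot 24 0, .rot 25 0, .rot 26 0, .rot 29 0, .rot 22 0, .rot 23 0, .rot 24 0, .rot 22 1,
   .rot 28 0, .rot 25 0, .rot 11 0, .rot 21 1, .rot 22 0, .rot 27 0, .rot 11 1, .rot 22 1, .rot 29 0, .rot 23 1,
   .rot 26 0, .rot 13 0, .rot 12 0, .rot 22 1, .rot 27 0, .rot 14 0, .rot 13 1, .rot 14 1, .rot 3 1, .rot 13 0,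
   .rot 28 1, .rot 23 0, .rot 28 0, .rot 23 1, .rot 12 1, .rot 19 0, .rot 15 0, .rot 19 1, .rot 14 1, .rot 22 1,
   .rot 4 1, .rot 14 0, .rot 13 1, .rot 22 0, .rot 50 1, .rot 30 0, .rot 16 0, .rot 17 0, .rot 18 0, .rot 14 1,
   .rot 23 0, .rot 24 0, .rot 29 0, .rot 23 1, .rot 31 0, .rot 45 1, .rot 38 0, .rot 39 0, .rot 43 0, .rot 44 0,
   .rot 20 0, .rot 49 1, .rot 1 1, .rot 36 0, .rot 32 0, .rot 37 0, .rot 40 0, .rot 44 1, .rot 33 0, .rot 0 1,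
   .rot 19 1, .rot 28 0, .rot 38 1, .rot 31 1, .rot 31 0, .rot 34 0, .rot 25 0, .rot 23 1, .rot 1 0, .rot 19 0,
   .rot 51 1, .rot 41 0, .rot 23 0, .rot 20 0, .rot 15 1, .rot 9 1, .rot 36 0, .rot 39 1, .rot 32 0, .rot 15 0,
   .rot 17 1, .rot 24 0, .rot 14 1, .rot 37 1, .rot 18 1, .rot 32 1, .rot 37 0, .rot 42 0, .rot 51 1, .rot 16 0,
   .rot 36 1, .rot 45 0, .rot 38 0, .rot 56 1, .rot 33 0, .rot 46 0, .rot 49 1, .rot 28 0, .rot 29 0, .rot 40 0,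
   .rot 47 0, .rot 1 0, .rot 43 1, .rot 54 1, .rot 39 0, .rot 17 0, .rot 5 1, .rot 46 1, .rot 22 0, .rot 41 0,
   .rot 3 0, .rot 45 1, .rot 35 0, .rot 48 0, .rot 61 1, .rot 58 1, .rot 40 0, .rot 47 1, .rot 36 1, .rot 40 1,
   .rot 14 0, .rot 15 0]

theorem run10_ok : Cert.isSt (cert.run ops10 ⟨ckB9, ckK9⟩) ckB10 ckK10 = true := by decide +kernel

end CfsgLib.Spor.Fi24.Clo
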